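import Cfsg.Agent.Chev.GoodAll
import Cfsg.Agent.Chev.SimpleGen
import Cfsg.Agent.Chev.CoxeterW
import Cfsg.Agent.G2MinDeg.Slice

/-!
Root elements, torus and Weyl elements of `E₆(q)`, and the common eigenspaces of root subgroups in
a representation. Roots are numbered by the tables; the indices `36, …, 71` are positive.
-/

set_option autoImplicit false
set_option linter.style.haveILetI false
set_option linter.unusedSectionVars false

namespace CfsgLib.E6MinDeg

open Cfsg.Lie CfsgLib.Chev CfsgLib.Chev.Tab Module CfsgLib.MinDeg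
open scoped MatrixGroups

/-- The table. -/
abbrev T6 : Tab chevE6 := E6Data.tab

/-- The integer of the single term in the commutator of two root elements. -/
def sgnR (r x : ℕ) : ℤ := ((T6.commT r x).head?.map fun c => c.2.1).getD 0

/-- The root of the single term in the commutator of two root elements. -/
def tgtR (r x : ℕ) : ℕ := ((T6.commT r x).head?.map fun c => c.1).getD 0

/-- The commutator formula has at most one term, bilinear with a sign. -/
def chkTerm (r : ℕ) : Bool :=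
  (List.range 72).all fun x => x == 71 - r || match T6.commT r x with
    | [] => true
    | [(k, c, i, j)] => x != r && i == 1 && j == 1 && decide (c = 1 ∨ c = -1) && Nat.blt k 72
    | _ => false

theorem chkTerm_all : (List.range 72).all chkTerm = true := by decide +kernel

theorem term_cases {r x : ℕ} (hr : r < 72) (hx : x < 72) (hn : x ≠ 71 - r) :
    (T6.commT r x = [] ∧ sgnR r x = 0) ∨
    (T6.commT r x = [(tgtR r x, sgnR r x, 1, 1)] ∧ (sgnR r x = 1 ∨ sgnR r x = -1) ∧
      tgtR r x < 72 ∧ x ≠ r) := by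
  have h := List.all_eq_true.mp (List.all_eq_true.mp chkTerm_all r (List.mem_range.mpr hr)) x
    (List.mem_range.mpr hx)
  simp only [Bool.or_eq_true, beq_iff_eq, hn, false_or] at h
  rcases hl : T6.commT r x with _ | ⟨⟨k, c, i, j⟩, _ | ⟨b, l⟩⟩
  · exact Or.inl ⟨rfl, by simp [sgnR, hl]⟩
  · rw [hl] at h
    simp only [Bool.and_eq_true, beq_iff_eq, bne_iff_ne, decide_eq_true_eq, Nat.blt_eq] at h
    obtain ⟨⟨⟨⟨h1, rfl⟩, rfl⟩, h4⟩, h5⟩ := h
    refine Or.inr ⟨by simp [sgnR, tgtR, hl], ?_, ?_, h1⟩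
    · simpa [sgnR, hl] using h4
    · simpa [tgtR, hl] using h5
  · rw [hl] at h
    simp at h

variable {F : Type*} [Field F]

/-- A root element in the group. -/
noncomputable def xg (r : ℕ) (t : F) : chevE6.group F :=
  ⟨good_E6.full.x r t, good_E6.x_mem_group r t⟩

theorem coe_xg (r : ℕ) (t : F) :
    (xg r t : GL chevE6.Idx F) = good_E6.full.x r t := rfl

theorem xg_add (r : ℕ) (t u : F) : xg r t * xg r u = xg r (t + u) :=
  Subtype.ext (good_E6.full.x_add r t u)

theorem xg_zero (r : ℕ) : xg r (0 : F) = 1 := Subtype.ext (good_E6.full.x_zero r)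

theorem xg_inv (r : ℕ) (t : F) : (xg r t)⁻¹ = xg r (-t) := Subtype.ext (good_E6.full.x_inv r t)

/-- A root subgroup as a homomorphism. -/
noncomputable def eX (r : ℕ) : Multiplicative F →* chevE6.group F :=
  MonoidHom.mk' (fun t => xg r t.toAdd) fun a b => by rw [toAdd_mul, xg_add]

theorem eX_apply (r : ℕ) (t : F) : eX r (Multiplicative.ofAdd t) = xg r t := rfl

/-- The relation moving `x_r(t)` to the left past `x_s(u)`. -/
theorem xg_swap {r s : ℕ} (hr : r < 72) (hs : s < 72) (hn : s ≠ 71 - r) (t u : F) :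
    xg s u * xg r t = xg r t * (xg s u * xg (tgtR r s) (-((sgnR r s : F) * t * u))) := by
  by_cases he : s = r
  · subst he
    rcases term_cases hr hs hn with ⟨-, h⟩ | ⟨-, -, -, h⟩
    · rw [h, Int.cast_zero, zero_mul, zero_mul, neg_zero, xg_zero, mul_one, xg_add, xg_add,
        add_comm]
    · exact absurd rfl h
  · refine Subtype.ext ?_
    have hn' : s ≠ negR chevE6 r := by
      rw [negR_eq]
      exact hn
    have h := good_E6.full.x_comm (F := F) (r := r) (s := s) hr hs he hn' t u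
    rw [good_E6.full.cert.commWord_eq hr hs] at h
    show good_E6.full.x s u * good_E6.full.x r t =
      good_E6.full.x r t * (good_E6.full.x s u * good_E6.full.x (tgtR r s) _)
    rw [h, mul_assoc]
    rcases term_cases hr hs hn with ⟨hl, hs0⟩ | ⟨hl, -⟩
    · simp [rhsWord, hl, hs0, good_E6.full.x_zero]
    · simp [rhsWord, hl]

/-- Root elements without a commutator term commute. -/
theorem xg_comm {r s : ℕ} (hr : r < 72) (hs : s < 72) (hn : s ≠ 71 - r) (h0 : sgnR r s = 0)
    (t u : F) : xg s u * xg r t = xg r t * xg s u := by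
  rw [xg_swap hr hs hn, h0, Int.cast_zero, zero_mul, zero_mul, neg_zero, xg_zero, mul_one]

/-- A node as an index of the datum. -/
def ix (i : Fin 6) : Fin chevE6.rank := ⟨i.val, i.isLt⟩

/-- A torus element. -/
noncomputable def tor (i : Fin 6) (u : Fˣ) : chevE6.group F :=
  ⟨T6.hT F (Pi.mulSingle (ix i) u), good_E6.diagonal_le_group (by
    rw [good_E6.full.diagonal_eq_range]
    exact ⟨_, rfl⟩)⟩

theorem tor_conj (i : Fin 6) {s : ℕ} (hs : s < 72) (u : Fˣ) (t : F) :
    tor i u * xg s t * (tor i u)⁻¹ = xg s (((u ^ T6.cart i.val s : Fˣ) : F) * t) := by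
  refine Subtype.ext ?_
  show T6.hT F _ * good_E6.full.x s t * (T6.hT F _)⁻¹ = _
  rw [good_E6.full.hT_conj hs]
  have : T6.chi (F := F) s (Pi.mulSingle (ix i) u) = u ^ T6.cart i.val s := by
    show ∏ j, (Pi.mulSingle (ix i) u : Fin chevE6.rank → Fˣ) j ^ T6.cart j s = _
    rw [Finset.prod_eq_single (ix i) (fun j _ hj => by simp [hj]) (by simp)]
    simp [ix]
  rw [this]
  rfl

theorem tor_mul (i : Fin 6) (u v : Fˣ) : tor i u * tor i v = tor i (u * v) := by
  refine Subtype.ext ?_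
  show T6.hT F _ * T6.hT F _ = T6.hT F _
  rw [← map_mul, Pi.mulSingle_mul]

theorem tor_comm (i j : Fin 6) (u v : Fˣ) : tor i u * tor j v = tor j v * tor i u := by
  refine Subtype.ext ?_
  show T6.hT F _ * T6.hT F _ = T6.hT F _ * T6.hT F _
  rw [← map_mul, ← map_mul, mul_comm]

/-- The element `n(t)` of a fundamental root. -/
noncomputable def nT (i : Fin 6) (t : F) : chevE6.group F :=
  ⟨good_E6.full.nr (chevE6.simple i) t, good_E6.nr_mem_group _ t⟩

/-- The reflection in a fundamental root. -/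
noncomputable def nF (i : Fin 6) : chevE6.group F := nT i 1

theorem nT_conj (i : Fin 6) {s : ℕ} (hs : s < 72) {t : F} (ht : t ≠ 0) (u : F) :
    nT i t * xg s u * (nT i t)⁻¹ =
      xg (T6.reflT i.val s) (t ^ (-(T6.cart i.val s)) * (T6.sgn i.val s : F) * u) :=
  Subtype.ext (good_E6.full.nr_conj (F := F) (i := i.val) i.isLt hs ht u)

theorem nT_def (i : Fin 6) (t : F) : nT i t = xg (chevE6.simple i) t *
    xg (71 - chevE6.simple i) (-t⁻¹) * xg (chevE6.simple i) t := Subtype.ext rfl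

theorem nT_inv (i : Fin 6) (t : F) : (nT i t)⁻¹ = nT i (-t) :=
  Subtype.ext (good_E6.full.nr_inv t)

theorem simple_lt (i : Fin 6) : chevE6.simple i < 72 := good_E6.full.simple_lt i.isLt

/-- `n(t) = h(t) n`. -/
theorem nT_eq (i : Fin 6) (u : Fˣ) : nT i (u : F) = tor i u * nF i := by
  refine Subtype.ext ?_
  show good_E6.full.nr _ _ = T6.hT F _ * good_E6.full.nr _ 1
  rw [good_E6.full.hT_single (i := ix i)]
  show _ = good_E6.full.nr (chevE6.simple i.val) (u : F) *
    good_E6.full.nr (chevE6.simple i.val) (-1) * good_E6.full.nr (chevE6.simple i.val) 1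
  rw [mul_assoc, ← good_E6.full.nr_inv (1 : F), inv_mul_cancel, mul_one]

/-- A torus element past a reflection. -/
theorem tor_nF (j i : Fin 6) (u : Fˣ) : tor j u * nF i =
    tor i (u ^ T6.cart j.val (chevE6.simple i)) * nF i * tor j u := by
  rw [← nT_eq, ← mul_inv_eq_iff_eq_mul]
  have hp := simple_lt i
  have hcart : T6.cart j.val (71 - chevE6.simple i) = -T6.cart j.val (chevE6.simple i) := by
    fin_cases i <;> fin_cases j <;> decide +kernel
  have hn : 71 - chevE6.simple i < 72 := by omega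
  conv_lhs => rw [nF, nT_def]
  rw [nT_def, show tor j u * (xg (chevE6.simple i) 1 * xg (71 - chevE6.simple i) (-1⁻¹) *
      xg (chevE6.simple i) 1) * (tor j u)⁻¹ =
      tor j u * xg (chevE6.simple i) 1 * (tor j u)⁻¹ *
        (tor j u * xg (71 - chevE6.simple i) (-1⁻¹) * (tor j u)⁻¹) *
        (tor j u * xg (chevE6.simple i) 1 * (tor j u)⁻¹) by group,
    tor_conj j hp, tor_conj j hn, hcart]
  simp [zpow_neg]

/-- The product of reflections along a word. -/
noncomputable def nW : List (Fin 6) → chevE6.group F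
  | [] => 1
  | i :: L => nF i * nW L

/-- The action of a word on roots. -/
def wR : List (Fin 6) → ℕ → ℕ
  | [], s => s
  | i :: L, s => T6.reflT i.val (wR L s)

/-- The sign of a word at a root. -/
def wS : List (Fin 6) → ℕ → ℤ
  | [], _ => 1
  | i :: L, s => T6.sgn i.val (wR L s) * wS L s

theorem wR_lt : ∀ (L : List (Fin 6)) {s : ℕ}, s < 72 → wR L s < 72
  | [], _, hs => hs
  | i :: L, _, hs => (good_E6.full.reflT_spec i.isLt (wR_lt L hs)).1

theorem wR_inj : ∀ (L : List (Fin 6)) {s s' : ℕ}, s < 72 → s' < 72 → wR L s = wR L s' → s = s'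
  | [], _, _, _, _, h => h
  | i :: L, s, s', hs, hs', h => by
    refine wR_inj L hs hs' ?_
    have h1 := (good_E6.full.reflT_spec i.isLt (wR_lt L hs)).2.1
    have h2 := (good_E6.full.reflT_spec i.isLt (wR_lt L hs')).2.1
    rw [← h1, show T6.reflT i.val (wR L s) = T6.reflT i.val (wR L s') from h, h2]

theorem wS_sq : ∀ (L : List (Fin 6)) {s : ℕ}, s < 72 → ((wS L s : ℤ) : F) * (wS L s : F) = 1
  | [], _, _ => by simp [wS]
  | i :: L, s, hs => by
    have h := (good_E6.full.reflT_spec i.isLt (wR_lt L hs)).2.2.2.2.2.2.1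
    have ih := wS_sq L hs
    simp only [wS, Int.cast_mul]
    rcases h with h | h <;> rw [h] <;> simp [ih]

theorem nW_conj : ∀ (L : List (Fin 6)) {s : ℕ}, s < 72 → ∀ u : F,
    nW L * xg s u * (nW L)⁻¹ = xg (wR L s) ((wS L s : F) * u)
  | [], _, _, u => by simp [nW, wR, wS]
  | i :: L, s, hs, u => by
    rw [show nW (F := F) (i :: L) = nF i * nW L from rfl,
      show nF i * nW L * xg s u * (nF i * nW L)⁻¹ = nF i * (nW L * xg s u * (nW L)⁻¹) * (nF i)⁻¹ by
        group, nW_conj L hs u, nF, nT_conj i (wR_lt L hs) one_ne_zero]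
    simp [wR, wS, mul_assoc]

theorem nT_act (i : Fin 6) {s : ℕ} (hs : s < 72) {t : F} (ht : t ≠ 0) :
    ∃ c : F, c ≠ 0 ∧ ∀ u, nT i t * xg s u * (nT i t)⁻¹ = xg (T6.reflT i.val s) (c * u) := by
  refine ⟨_, mul_ne_zero (zpow_ne_zero _ ht) ?_, fun u => nT_conj i hs ht u⟩
  rcases (good_E6.full.reflT_spec i.isLt hs).2.2.2.2.2.2.1 with h | h <;> rw [h] <;> simp

theorem finite_group [Fintype F] : Finite (chevE6.group F) := by
  classical
  haveI : Finite (GL chevE6.Idx F) := inferInstance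
  infer_instance

section Eigen

variable [Fintype F] {V : Type*} [AddCommGroup V] [Module ℂ V] [FiniteDimensional ℂ V]
  (ρ : Representation ℂ (chevE6.group F) V) (ψ : AddChar F ℂ)

/-- The common eigenspace of root subgroups with the characters of a function. -/
noncomputable def W (S : List ℕ) (P : ℕ → F) : Submodule ℂ V :=
  G2MinDeg.wt ρ eX ψ (S.map fun x => (x, P x))

theorem mem_W {S : List ℕ} {P : ℕ → F} {v : V} :
    v ∈ W ρ ψ S P ↔ ∀ x ∈ S, ∀ u, ρ (xg x u) v = ψ (P x * u) • v := by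
  simp only [W, G2MinDeg.mem_wt, List.forall_mem_map, G2MinDeg.mem_eig, eX_apply]

/-- Its dimension. -/
noncomputable def dW (S : List ℕ) (P : ℕ → F) : ℕ := finrank ℂ (W ρ ψ S P)

theorem W_mono {S S' : List ℕ} {P P' : ℕ → F} (h : ∀ x ∈ S', x ∈ S ∧ P' x = P x) :
    W ρ ψ S P ≤ W ρ ψ S' P' := fun v hv => (mem_W ρ ψ).2 fun x hx u => by
  obtain ⟨h1, h2⟩ := h x hx
  rw [h2]
  exact (mem_W ρ ψ).1 hv x h1 u

theorem W_congr {S : List ℕ} {P P' : ℕ → F} (h : ∀ x ∈ S, P x = P' x) :
    W ρ ψ S P = W ρ ψ S P' :=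
  le_antisymm (W_mono ρ ψ fun x hx => ⟨hx, (h x hx).symm⟩) (W_mono ρ ψ fun x hx => ⟨hx, h x hx⟩)

theorem dW_le (S : List ℕ) (P : ℕ → F) : dW ρ ψ S P ≤ finrank ℂ V := Submodule.finrank_le _

theorem dW_congr {S : List ℕ} {P P' : ℕ → F} (h : ∀ x ∈ S, P x = P' x) :
    dW ρ ψ S P = dW ρ ψ S P' := by rw [dW, W_congr ρ ψ h, ← dW]

/-- The root element `x_r(t)` can be moved past the root subgroups of a list. -/
def Mov (r : ℕ) (S : List ℕ) : Prop :=
  r < 72 ∧ ∀ x ∈ S, x < 72 ∧ x ≠ 71 - r ∧ (sgnR r x = 0 ∨ tgtR r x ∈ S)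

instance (r : ℕ) (S : List ℕ) : Decidable (Mov r S) :=
  inferInstanceAs (Decidable (_ ∧ _))

/-- The characters of a translate. -/
def mv (r : ℕ) (t : F) (P : ℕ → F) (x : ℕ) : F := P x - (sgnR r x : F) * t * P (tgtR r x)

theorem translate {r : ℕ} {S : List ℕ} (hm : Mov r S) (t : F) {P : ℕ → F} {v : V}
    (hv : v ∈ W ρ ψ S P) : ρ (xg r t) v ∈ W ρ ψ S (mv r t P) := by
  refine (mem_W ρ ψ).2 fun x hx u => ?_
  obtain ⟨hx72, hxn, hc⟩ := hm.2 x hx
  refine eigen_translate ρ (xg_swap hm.1 hx72 hxn t u) ?_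
  have hk : ρ (xg (tgtR r x) (-((sgnR r x : F) * t * u))) v =
      ψ (P (tgtR r x) * (-((sgnR r x : F) * t * u))) • v := by
    rcases hc with h0 | hk
    · simp [h0, xg_zero]
    · exact (mem_W ρ ψ).1 hv _ hk _
  rw [map_mul, Module.End.mul_apply, hk, map_smul, (mem_W ρ ψ).1 hv x hx u, smul_smul, mv,
    ← AddChar.map_add_eq_mul]
  congr 2
  ring

/-- The translate stays in the same eigenspace. -/
theorem preserve {r : ℕ} {S : List ℕ} (hm : Mov r S) (t : F) {P : ℕ → F}
    (h0 : ∀ x ∈ S, sgnR r x = 0 ∨ P (tgtR r x) = 0) {v : V}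
    (hv : v ∈ W ρ ψ S P) : ρ (xg r t) v ∈ W ρ ψ S P := by
  rw [W_congr ρ ψ (P' := mv r t P) fun x hx => by rcases h0 x hx with h | h <;> simp [mv, h]]
  exact translate ρ ψ hm t hv

/-- Injective maps between eigenspaces. -/
theorem dW_le_of_maps {S S' : List ℕ} {P P' : ℕ → F} (g : chevE6.group F)
    (h : ∀ v ∈ W ρ ψ S P, ρ g v ∈ W ρ ψ S' P') : dW ρ ψ S P ≤ dW ρ ψ S' P' := by
  refine LinearMap.finrank_le_finrank_of_injective (f := (ρ g).restrict h) fun a b hab => ?_
  refine Subtype.ext (sub_eq_zero.1 ?_)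
  by_contra hne
  refine rho_inj ρ (g := g) hne ?_
  rw [map_sub, sub_eq_zero]
  exact congrArg Subtype.val hab

/-- An element permuting root subgroups carries eigenspaces. -/
theorem maps_W {S S' : List ℕ} {P P' : ℕ → F} (g : chevE6.group F)
    (h : ∀ y ∈ S', ∃ x ∈ S, ∃ c : F, c ≠ 0 ∧ (∀ u, g * xg x u * g⁻¹ = xg y (c * u)) ∧
      P' y * c = P x) {v : V} (hv : v ∈ W ρ ψ S P) : ρ g v ∈ W ρ ψ S' P' := by
  refine (mem_W ρ ψ).2 fun y hy u => ?_
  obtain ⟨x, hx, c, hc, hconj, hP⟩ := h y hy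
  refine eigen_translate ρ (y := xg x (c⁻¹ * u)) ?_ ?_
  · have := hconj (c⁻¹ * u)
    rw [mul_inv_eq_iff_eq_mul, mul_inv_cancel_left₀ hc] at this
    exact this.symm
  · rw [(mem_W ρ ψ).1 hv x hx, ← hP, mul_assoc, mul_inv_cancel_left₀ hc]

/-- The inverse of such an element. -/
theorem maps_W_inv {S S' : List ℕ} {P P' : ℕ → F} (g : chevE6.group F)
    (h : ∀ x ∈ S, ∃ y ∈ S', ∃ c : F, (∀ u, g * xg x u * g⁻¹ = xg y (c * u)) ∧
      P' y * c = P x) {v : V} (hv : v ∈ W ρ ψ S' P') : ρ g⁻¹ v ∈ W ρ ψ S P := by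
  refine (mem_W ρ ψ).2 fun x hx u => ?_
  obtain ⟨y, hy, c, hconj, hP⟩ := h x hx
  refine eigen_translate ρ (y := xg y (c * u)) ?_ ?_
  · rw [← hconj u]
    group
  · rw [(mem_W ρ ψ).1 hv y hy, ← mul_assoc, hP]

end Eigen

end CfsgLib.E6MinDeg
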