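import Cfsg.Agent.E6MinDeg.Hecke

/-!
Six independent vectors fixed by the positive root subgroups, and the count along the chain of
radicals.
-/

set_option autoImplicit false
set_option linter.style.haveILetI false
set_option linter.unusedSectionVars false

namespace CfsgLib.E6MinDeg

open Cfsg.Lie CfsgLib.Chev CfsgLib.Chev.Tab Module CfsgLib.MinDeg

theorem chk_chain :
    (∀ l ∈ lvls, ∀ x ∈ l.Q ++ l.K, x ∈ posL) ∧
    (∀ x ∈ lvl1.K, x ∈ lvl0.Q ++ lvl0.K) ∧ (∀ x ∈ lvl2.K, x ∈ lvl1.Q ++ lvl1.K) ∧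
    (∀ x ∈ lvl3.K, x ∈ lvl2.Q ++ lvl2.K) ∧ (∀ x ∈ lvl4.K, x ∈ lvl3.Q ++ lvl3.K) ∧
    (∀ x ∈ lvl5.K, x ∈ lvl4.Q ++ lvl4.K) ∧
    (∀ x ∈ lvl0.Q ++ lvl0.K, x ∈ lvl1.K) ∧ (∀ x ∈ lvl1.Q ++ lvl1.K, x ∈ lvl2.K) ∧
    (∀ x ∈ lvl2.Q ++ lvl2.K, x ∈ lvl3.K) ∧ (∀ x ∈ lvl3.Q ++ lvl3.K, x ∈ lvl4.K) ∧
    (∀ x ∈ lvl4.Q ++ lvl4.K, x ∈ lvl5.K) ∧
    (∀ l ∈ lvls, ∃ i : Fin 6, sR i = l.s) := by
  decide +kernel

variable {F : Type*} [Field F] [Fintype F] {V : Type*} [AddCommGroup V] [Module ℂ V]
  [FiniteDimensional ℂ V] {ρ : Representation ℂ (chevE6.group F) V} {ψ : AddChar F ℂ}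
  (H : Small ρ ψ) (hirr : ρ.IsIrreducible) (hk : 2 ≤ finrank ℂ V)
include H hirr hk

theorem Small.some_pH : ∃ (i : Fin 6) (f : V), f ∈ fixU ρ ψ ∧ pH ρ i f ≠ 0 := by
  by_contra hc
  push Not at hc
  obtain ⟨f, hf, hf0⟩ := Submodule.exists_mem_ne_zero_of_ne_bot H.fixed_ne
  have hall : ∀ g : chevE6.group F, ρ g f = f := by
    intro g
    let K : Subgroup (GL chevE6.Idx F) := (
      { carrier := {g | ρ g f = f}
        mul_mem' := fun {a b} ha hb => by
          show ρ (a * b) f = f
          rw [map_mul, Module.End.mul_apply, hb, ha]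
        one_mem' := by show ρ 1 f = f; rw [map_one, Module.End.one_apply]
        inv_mem' := fun {a} ha => by
          show ρ a⁻¹ f = f
          conv_lhs => rw [← (ha : ρ a f = f)]
          rw [← Module.End.mul_apply, ← map_mul, inv_mul_cancel, map_one, Module.End.one_apply] } :
      Subgroup (chevE6.group F)).map (chevE6.group F).subtype
    have hle : chevE6.group F ≤ K := by
      refine good_E6.group_le_of_simple (fun i t => ?_) fun i t => ?_
      · exact ⟨xg (sR ⟨i.val, i.isLt⟩) t, fix_apply ρ ψ hf (sR_mem _) t, rfl⟩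
      · refine ⟨xg (71 - sR ⟨i.val, i.isLt⟩) t, H.neg_of_pH hf (hc ⟨i.val, i.isLt⟩ f hf) t, ?_⟩
        rw [good_E6.full.cert.neg_eq (good_E6.full.simple_lt i.isLt)]
        rfl
    obtain ⟨g', hg', he⟩ := hle g.2
    rw [Subtype.ext he] at hg'
    exact hg'
  let S : Subrepresentation ρ := ⟨Submodule.span ℂ {f}, fun g w hw => by
    obtain ⟨c, rfl⟩ := Submodule.mem_span_singleton.1 hw
    rw [map_smul, hall g]
    exact Submodule.smul_mem _ _ (Submodule.mem_span_singleton_self f)⟩
  haveI : IsSimpleOrder (Subrepresentation ρ) := hirr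
  rcases (IsSimpleOrder.eq_bot_or_eq_top S) with e | e
  · have h1 : f ∈ S.toSubmodule := Submodule.mem_span_singleton_self f
    rw [e] at h1
    exact hf0 ((Submodule.mem_bot ℂ).1 h1)
  · have h1 : S.toSubmodule = ⊤ := by rw [e]; rfl
    have h2 := finrank_span_singleton (K := ℂ) hf0
    rw [show Submodule.span ℂ {f} = S.toSubmodule from rfl, h1, finrank_top] at h2
    omega

theorem Small.all_pH (i : Fin 6) : ∃ f : V, f ∈ fixU ρ ψ ∧ pH ρ i f ≠ 0 := by
  have step : ∀ i j : Fin 6, T6.cart i.val (sR j) = -1 →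
      (∃ f : V, f ∈ fixU ρ ψ ∧ pH ρ i f ≠ 0) → ∃ f : V, f ∈ fixU ρ ψ ∧ pH ρ j f ≠ 0 := by
    rintro i j h ⟨f, hf, hne⟩
    by_contra hc
    push Not at hc
    have e := H.pH_braid h hf
    rw [hc _ (pH_mem ρ ψ hf), hc _ hf, map_zero, map_zero, smul_zero, smul_zero, zero_sub,
      sub_zero, neg_eq_zero] at e
    exact hne ((smul_eq_zero.1 e).resolve_left (by simp))
  have h3 : ∃ f : V, f ∈ fixU ρ ψ ∧ pH ρ 3 f ≠ 0 := by
    obtain ⟨k, hk'⟩ := H.some_pH hirr hk
    fin_cases k
    · exact step 2 3 (by decide +kernel) (step 0 2 (by decide +kernel) hk')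
    · exact step 1 3 (by decide +kernel) hk'
    · exact step 2 3 (by decide +kernel) hk'
    · exact hk'
    · exact step 4 3 (by decide +kernel) hk'
    · exact step 4 3 (by decide +kernel) (step 5 4 (by decide +kernel) hk')
  fin_cases i
  · exact step 2 0 (by decide +kernel) (step 3 2 (by decide +kernel) h3)
  · exact step 3 1 (by decide +kernel) h3
  · exact step 3 2 (by decide +kernel) h3
  · exact h3
  · exact step 3 4 (by decide +kernel) h3
  · exact step 4 5 (by decide +kernel) (step 3 4 (by decide +kernel) h3)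

theorem Small.six_le : 6 ≤ finrank ℂ (fixU ρ ψ) := by
  classical
  choose g hg hgne using fun i => H.all_pH hirr hk i
  set f : Fin 6 → V := fun i => pH ρ i (g i) with hf
  have hfm : ∀ i, f i ∈ fixU ρ ψ := fun i => pH_mem ρ ψ (hg i)
  choose b hb using fun i j => H.pH_rank (hg i) (hgne i) (hfm j) (i := i)
  have hb' : ∀ i j, pH ρ i (f j) = b i j • f i := hb
  have hne : ∀ i, f i ≠ 0 := hgne
  have hinj : ∀ {c d : ℂ} {i}, c • f i = d • f i → c = d :=
    fun {c d i} h => smul_left_injective ℂ (hne i) h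
  have hdiag : ∀ i, b i i = 1 := fun i => hinj (i := i) (by
    rw [← hb', one_smul]
    exact H.pH_idem (hg i) i)
  have horth : ∀ i j, i ≠ j → T6.cart i.val (sR j) = 0 → b i j = 0 := fun i j hij h0 => by
    refine hinj (i := i) ?_
    rw [← hb', zero_smul]
    exact H.pH_orth hij.symm (((chk_simple i).2.2.2.2.2.2.2.2 j).1.trans h0) (hg j)
  set Q : ℂ := ((Fintype.card F : ℂ) + 1) ^ 2 with hQ
  set q : ℂ := (Fintype.card F : ℂ) with hq
  have hQ0 : Q ≠ 0 := pow_ne_zero _ card_add_one_ne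
  have hq0 : q ≠ 0 := by simp [hq]
  have hedge0 : ∀ i j, T6.cart i.val (sR j) = -1 → Q * (b j i * b i j) = q ∨ f i = b j i • f j := by
    intro i j h
    have e := H.pH_braid h (hfm i)
    simp only [hb', hdiag, one_smul, map_smul, smul_smul] at e
    rw [← sub_eq_zero] at e
    have e2 : (Q * (b j i * b i j) - q) • (f i - b j i • f j) = 0 := by
      rw [← e, hQ]
      module
    rcases smul_eq_zero.1 e2 with e3 | e3
    · exact Or.inl (sub_eq_zero.1 e3)
    · exact Or.inr (sub_eq_zero.1 e3)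
  -- a third node excludes equal lines
  have hedge : ∀ i j k, T6.cart i.val (sR j) = -1 → T6.cart k.val (sR j) = -1 →
      i ≠ k → T6.cart k.val (sR i) = 0 → Q * (b j i * b i j) = q := by
    intro i j k h hkj hik hki
    rcases hedge0 i j h with e | e
    · exact e
    exfalso
    have hbne : b j i ≠ 0 := fun h0 => hne i (by rw [e, h0, zero_smul])
    have h1 := congrArg (pH ρ k) e
    rw [map_smul, hb' k i, horth k i hik.symm hki, zero_smul, hb' k j, smul_smul] at h1
    have hkj0 : b k j = 0 := by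
      rcases smul_eq_zero.1 h1.symm with h2 | h2
      · exact (mul_eq_zero.1 h2).resolve_left hbne
      · exact absurd h2 (hne k)
    rcases hedge0 j k (by rw [← ((chk_simple j).2.2.2.2.2.2.2.2 k).1]; exact hkj) with e' | e'
    · rw [hkj0, zero_mul, mul_zero] at e'
      exact hq0 e'.symm
    · rw [hkj0, zero_smul] at e'
      exact hne j e'
  have e02 : Q * (b 2 0 * b 0 2) = q := hedge 0 2 3 (by decide +kernel) (by decide +kernel)
    (by decide) (by decide +kernel)
  have e23 : Q * (b 3 2 * b 2 3) = q := hedge 2 3 4 (by decide +kernel) (by decide +kernel)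
    (by decide) (by decide +kernel)
  have e13 : Q * (b 3 1 * b 1 3) = q := hedge 1 3 2 (by decide +kernel) (by decide +kernel)
    (by decide) (by decide +kernel)
  have e43 : Q * (b 3 4 * b 4 3) = q := hedge 4 3 2 (by decide +kernel) (by decide +kernel)
    (by decide) (by decide +kernel)
  have e54 : Q * (b 4 5 * b 5 4) = q := hedge 5 4 3 (by decide +kernel) (by decide +kernel)
    (by decide) (by decide +kernel)
  have hli : LinearIndependent ℂ f := by
    rw [Fintype.linearIndependent_iff]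
    intro x hx
    have row : ∀ i, ∑ j, b i j * x j = 0 := fun i => by
      have := congrArg (pH ρ i) hx
      rw [map_sum, map_zero, Finset.sum_congr rfl fun j _ => by
        rw [map_smul, hb' i j, smul_smul, mul_comm], ← Finset.sum_smul] at this
      exact (smul_eq_zero.1 this).resolve_right (hne i)
    have z : ∀ i j : Fin 6, (i ≠ j ∧ T6.cart i.val (sR j) = 0) → b i j = 0 :=
      fun i j h => horth i j h.1 h.2
    have r0 := row 0
    have r1 := row 1
    have r2 := row 2
    have r3 := row 3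
    have r4 := row 4
    have r5 := row 5
    simp only [Fin.sum_univ_six, hdiag,
      z 0 1 (by decide +kernel), z 0 3 (by decide +kernel), z 0 4 (by decide +kernel),
      z 0 5 (by decide +kernel), z 1 0 (by decide +kernel), z 1 2 (by decide +kernel),
      z 1 4 (by decide +kernel), z 1 5 (by decide +kernel), z 2 1 (by decide +kernel),
      z 2 4 (by decide +kernel), z 2 5 (by decide +kernel), z 3 0 (by decide +kernel),
      z 3 5 (by decide +kernel), z 4 0 (by decide +kernel), z 4 1 (by decide +kernel),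
      z 4 2 (by decide +kernel), z 5 0 (by decide +kernel), z 5 1 (by decide +kernel),
      z 5 2 (by decide +kernel), z 5 3 (by decide +kernel), zero_mul, add_zero, zero_add,
      one_mul] at r0 r1 r2 r3 r4 r5
    have hQq : Q - q ≠ 0 := by
      have : Q - q = ((Fintype.card F ^ 2 + Fintype.card F + 1 : ℕ) : ℂ) := by
        rw [hQ, hq]; push_cast; ring
      rw [this]
      exact Nat.cast_ne_zero.2 (Nat.succ_ne_zero _)
    have a2 : (Q - q) * x 2 + Q * b 2 3 * x 3 = 0 := by
      linear_combination Q * r2 - Q * b 2 0 * r0 + x 2 * e02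
    have a4 : (Q - q) * x 4 + Q * b 4 3 * x 3 = 0 := by
      linear_combination Q * r4 - Q * b 4 5 * r5 + x 4 * e54
    have a3 : ((Q - q) ^ 2 - 2 * q * Q) * x 3 = 0 := by
      linear_combination (Q - q) * Q * r3 - (Q - q) * Q * b 3 1 * r1 + (Q - q) * x 3 * e13 -
        Q * b 3 2 * a2 - Q * b 3 4 * a4 + Q * x 3 * e23 + Q * x 3 * e43
    have x3 : x 3 = 0 := by
      refine (mul_eq_zero.1 a3).resolve_left ?_
      obtain ⟨k, hk'⟩ := Nat.exists_eq_add_of_le (Fintype.one_lt_card (α := F))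
      have : (Q - q) ^ 2 - 2 * q * Q =
          ((13 + k * 28 + k ^ 2 * 23 + k ^ 3 * 8 + k ^ 4 : ℕ) : ℂ) := by
        rw [hQ, hq, hk']; push_cast; ring
      rw [this]
      exact Nat.cast_ne_zero.2 (show (13 + k * 28 + k ^ 2 * 23 + k ^ 3 * 8 + k ^ 4) ≠ 0 by omega)
    have x2 : x 2 = 0 := by
      rw [x3, mul_zero, add_zero] at a2
      exact (mul_eq_zero.1 a2).resolve_left hQq
    have x4 : x 4 = 0 := by
      rw [x3, mul_zero, add_zero] at a4
      exact (mul_eq_zero.1 a4).resolve_left hQq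
    intro i
    fin_cases i
    · show x 0 = 0; linear_combination r0 - b 0 2 * x2
    · show x 1 = 0; linear_combination r1 - b 1 3 * x3
    · exact x2
    · exact x3
    · exact x4
    · show x 5 = 0; linear_combination r5 - b 5 4 * x4
  have h : LinearIndependent ℂ fun i => (⟨f i, hfm i⟩ : fixU ρ ψ) :=
    LinearIndependent.of_comp (fixU ρ ψ).subtype hli
  have := h.fintype_card_le_finrank
  simpa using this

theorem Small.level {l : Lvl} (hl : l ∈ lvls) :
    lvlCard (Fintype.card F) l + dW ρ ψ (l.Q ++ l.K) (fun _ => 0) ≤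
      dW ρ ψ l.K (fun _ => 0) := by
  have key := lvl_count ρ ψ H.prim hl (m := 1) fun a ha => by
    obtain ⟨i, hi⟩ := chk_chain.2.2.2.2.2.2.2.2.2.2.2 l hl
    obtain ⟨g, hg, hne⟩ := H.all_pH hirr hk i
    have hA : comp ρ ψ i a (pH ρ i g) ≠ 0 := fun h => hne (by
      have := H.comp_zero (pH_mem ρ ψ hg) ha h
      rwa [H.pH_idem hg] at this)
    refine one_le_dW ρ ψ (W_mono ρ ψ (S := posL) (P := dl (sR i) a) (fun x hx =>
      ⟨chk_chain.1 l hl x hx, by rw [hi]⟩) (comp_mem ρ ψ (pH_mem ρ ψ hg))) hA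
  rwa [mul_one] at key

theorem Small.false : False := by
  have hsix : 6 ≤ dW ρ ψ (lvl5.Q ++ lvl5.K) (fun _ => (0 : F)) := le_trans (H.six_le hirr hk)
    (Submodule.finrank_mono (W_mono ρ ψ fun x hx => ⟨chk_chain.1 lvl5 (by simp [lvls]) x hx, rfl⟩))
  obtain ⟨-, h1, h2, h3, h4, h5, -⟩ := chk_chain
  have next_le : ∀ {A B : List ℕ}, (∀ x ∈ A, x ∈ B) →
      dW ρ ψ B (fun _ => (0 : F)) ≤ dW ρ ψ A (fun _ => (0 : F)) := fun {A B} h =>
    Submodule.finrank_mono (W_mono ρ ψ fun x hx => ⟨h x hx, rfl⟩)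
  have l0 := H.level hirr hk (l := lvl0) (by simp [lvls])
  have l1 := H.level hirr hk (l := lvl1) (by simp [lvls])
  have l2 := H.level hirr hk (l := lvl2) (by simp [lvls])
  have l3 := H.level hirr hk (l := lvl3) (by simp [lvls])
  have l4 := H.level hirr hk (l := lvl4) (by simp [lvls])
  have l5 := H.level hirr hk (l := lvl5) (by simp [lvls])
  obtain ⟨-, -, -, -, -, -, g1, g2, g3, g4, g5, -⟩ := chk_chain
  have n1 := next_le g1
  have n2 := next_le g2
  have n3 := next_le g3
  have n4 := next_le g4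
  have n5 := next_le g5
  have m1 := next_le h1
  have m2 := next_le h2
  have m3 := next_le h3
  have m4 := next_le h4
  have m5 := next_le h5
  have htop := dW_le ρ ψ lvl0.K (fun _ => (0 : F))
  have hsmall := H.small
  have htot : bnd (Fintype.card F) = lvlCard (Fintype.card F) lvl0 +
      lvlCard (Fintype.card F) lvl1 + lvlCard (Fintype.card F) lvl2 +
      lvlCard (Fintype.card F) lvl3 + lvlCard (Fintype.card F) lvl4 +
      lvlCard (Fintype.card F) lvl5 + 6 := by
    obtain ⟨k, hk'⟩ := Nat.exists_eq_add_of_le (Fintype.one_lt_card (α := F))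
    simp only [bnd, lvlCard, lvl0, lvl1, lvl2, lvl3, lvl4, lvl5, List.map_cons, List.map_nil,
      List.sum_cons, List.sum_nil, List.length_cons, List.length_nil, hk',
      show Nat.succ 1 + k - 1 = k + 1 by omega]
    ring
  omega

end CfsgLib.E6MinDeg
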