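import Cfsg.Agent.E6MinDeg.Moves

/-!
The tables used in counting the characters of the abelian radicals of `E₆`, and their checks.
-/

set_option autoImplicit false

namespace CfsgLib.E6MinDeg

open Cfsg.Lie CfsgLib.Chev CfsgLib.Chev.Tab

/-- The positive roots. -/
def posL : List ℕ := List.range' 36 36

/-- The sixteen roots of the first abelian radical. -/
def Q0 : List ℕ := List.range' 56 16

/-- The roots moving the coordinates next to the lowest root. -/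
def R10 : List ℕ := [16, 17, 18, 19, 20, 21, 26, 27, 28, 29]

/-- The roots of the radical next to the lowest one. -/
def adj0 : List ℕ := [66, 65, 64, 63, 62, 61, 60, 59, 58, 57]

/-- The roots of the radical orthogonal to the lowest one. -/
def five0 : List ℕ := [67, 68, 69, 70, 71]

/-- The roots moving the orthogonal coordinates. -/
def R4 : List (ℕ × List ℕ) := [(67, [22, 30, 33, 35]), (68, [23, 31, 34, 36]), (69, [24, 32, 37, 38]), (70, [25, 39, 40, 41]), (71, [46, 47, 48, 49])]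

/-- A step of the chain of radicals: the roots fixed so far, the new radical, its lowest root and
the pivots with a word and the moving roots. -/
structure Lvl where
  K : List ℕ
  Q : List ℕ
  s : ℕ
  piv : List (ℕ × List (Fin 6) × List ℕ)

/-- Step 0 of the chain. -/
def lvl0 : Lvl where
  K := []
  Q := [56, 57, 58, 59, 60, 61, 62, 63, 64, 65, 66, 67, 68, 69, 70, 71]
  s := 56
  piv :=
    [(56, [], []),
      (57, [2], [42]),
      (58, [3, 2], [39, 43]),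
      (59, [4, 3, 2], [37, 40, 44]),
      (60, [5, 4, 3, 2], [36, 38, 41, 45]),
      (61, [1, 3, 2], [46, 47, 50]),
      (62, [4, 1, 3, 2], [37, 46, 48, 51]),
      (63, [5, 4, 1, 3, 2], [36, 38, 46, 49, 52]),
      (64, [3, 4, 1, 3, 2], [39, 40, 47, 48, 53]),
      (65, [5, 3, 4, 1, 3, 2], [36, 39, 41, 47, 49, 54]),
      (66, [4, 5, 3, 4, 1, 3, 2], [37, 38, 40, 41, 48, 49, 55]),
      (67, [2, 3, 4, 1, 3, 2], [42, 43, 44, 50, 51, 53]),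
      (68, [5, 2, 3, 4, 1, 3, 2], [36, 42, 43, 45, 50, 52, 54]),
      (69, [4, 5, 2, 3, 4, 1, 3, 2], [37, 38, 42, 44, 45, 51, 52, 55]),
      (70, [3, 4, 5, 2, 3, 4, 1, 3, 2], [39, 40, 41, 43, 44, 45, 53, 54, 55]),
      (71, [1, 3, 4, 5, 2, 3, 4, 1, 3, 2], [46, 47, 48, 49, 50, 51, 52, 53, 54, 55])]

/-- Step 1 of the chain. -/
def lvl1 : Lvl where
  K := [56, 57, 58, 59, 60, 61, 62, 63, 64, 65, 66, 67, 68, 69, 70, 71]
  Q := [36, 38, 41, 45, 49, 52, 54, 55]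
  s := 36
  piv :=
    [(36, [], []),
      (38, [4], [37]),
      (41, [3, 4], [39, 40]),
      (45, [2, 3, 4], [42, 43, 44]),
      (49, [1, 3, 4], [46, 47, 48]),
      (52, [2, 1, 3, 4], [42, 46, 50, 51]),
      (54, [3, 2, 1, 3, 4], [39, 43, 47, 50, 53]),
      (55, [4, 3, 2, 1, 3, 4], [37, 40, 44, 48, 51, 53])]

/-- Step 2 of the chain. -/
def lvl2 : Lvl where
  K := [36, 38, 41, 45, 49, 52, 54, 55, 56, 57, 58, 59, 60, 61, 62, 63, 64, 65, 66, 67, 68, 69, 70, 71]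
  Q := [37, 40, 44, 48, 51, 53]
  s := 37
  piv :=
    [(37, [], []),
      (40, [3], [39]),
      (44, [2, 3], [42, 43]),
      (48, [1, 3], [46, 47]),
      (51, [2, 1, 3], [42, 46, 50]),
      (53, [3, 2, 1, 3], [39, 43, 47, 50])]

/-- Step 3 of the chain. -/
def lvl3 : Lvl where
  K := [36, 37, 38, 40, 41, 44, 45, 48, 49, 51, 52, 53, 54, 55, 56, 57, 58, 59, 60, 61, 62, 63, 64, 65, 66, 67, 68, 69, 70, 71]
  Q := [42, 43, 50]
  s := 42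
  piv :=
    [(42, [], []),
      (43, [3], [39]),
      (50, [1, 3], [46, 47])]

/-- Step 4 of the chain. -/
def lvl4 : Lvl where
  K := [36, 37, 38, 40, 41, 42, 43, 44, 45, 48, 49, 50, 51, 52, 53, 54, 55, 56, 57, 58, 59, 60, 61, 62, 63, 64, 65, 66, 67, 68, 69, 70, 71]
  Q := [39, 47]
  s := 39
  piv :=
    [(39, [], []),
      (47, [1], [46])]

/-- Step 5 of the chain. -/
def lvl5 : Lvl where
  K := [36, 37, 38, 39, 40, 41, 42, 43, 44, 45, 47, 48, 49, 50, 51, 52, 53, 54, 55, 56, 57, 58, 59, 60, 61, 62, 63, 64, 65, 66, 67, 68, 69, 70, 71]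
  Q := [46]
  s := 46
  piv :=
    [(46, [], [])]

/-- The chain. -/
def lvls : List Lvl := [lvl0, lvl1, lvl2, lvl3, lvl4, lvl5]

/-- A simple root `s`, a simple root `t` (equal to `s` or orthogonal to it in the conjugate radical)
and the word carrying the first radical. -/
def nodeT : List (ℕ × ℕ × List (Fin 6)) :=
  [(56, 56, []),
    (46, 46, [3, 2, 1, 3, 0, 2]),
    (42, 42, [0, 2]),
    (39, 39, [2, 3, 0, 2]),
    (37, 37, [3, 4, 2, 3, 0, 2]),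
    (36, 36, [4, 5, 3, 4, 2, 3, 0, 2]),
    (56, 46, [3, 4, 5, 2, 3, 0, 2, 1, 3, 4, 3, 2, 1, 3, 0, 2]),
    (56, 39, [4, 5, 2, 3, 0, 2, 1, 3, 4, 3, 2, 1, 3, 0, 2]),
    (37, 56, [2, 3, 4, 5, 1, 3, 4, 3, 2, 1, 3, 0, 2]),
    (36, 56, [2, 3, 4, 5, 1, 3, 4, 2, 3, 0, 2]),
    (46, 42, [3, 0, 2, 1, 3, 4, 5, 3, 2, 1, 3, 4, 3, 2, 1, 3, 0, 2]),
    (46, 37, [3, 2, 1, 3, 0, 2]),
    (46, 36, [4, 3, 2, 1, 3, 0, 2]),
    (42, 37, [5, 3, 2, 1, 3, 4, 3, 2, 1, 3, 0, 2]),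
    (36, 42, [3, 4, 5, 1, 3, 4, 2, 3, 0, 2]),
    (39, 36, [1, 3, 4, 3, 2, 1, 3, 0, 2])]

/-- The conjugate radical. -/
def wQ (w : List (Fin 6)) : List ℕ := Q0.map (wR w)

/-- Its positive part. -/
def wQpos (w : List (Fin 6)) : List ℕ := (wQ w).filter fun x => Nat.ble 36 x

/-- The positive roots moving its negative coordinates. -/
def wRM (w : List (Fin 6)) : List ℕ := (R10.map (wR w)).filter fun x => Nat.ble 36 x

theorem chk_base : Exact Q0 56 R10 ∧ Exact (56 :: adj0) 56 R10 ∧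
    (∀ r ∈ R10, src 56 r ∈ adj0) ∧ (∀ x ∈ adj0, ∃ r ∈ R10, src 56 r = x) ∧
    (∀ x, x ∈ five0 ++ 56 :: adj0 ↔ x ∈ Q0) ∧
    five0.Nodup ∧ (56 :: adj0).Nodup ∧ (∀ x ∈ five0, x ∉ 56 :: adj0) ∧
    (∀ r ∈ five0, r < 72 ∧ ∀ x ∈ five0 ++ 56 :: adj0, x < 72 ∧ x ≠ 71 - r ∧ sgnR r x = 0) ∧
    (∀ r ∈ 56 :: adj0, r < 72 ∧ ∀ x ∈ 56 :: adj0, x < 72 ∧ x ≠ 71 - r ∧ sgnR r x = 0) ∧
    R10.length = 10 := by
  refine ⟨by decide +kernel, by decide +kernel, by decide +kernel, by decide +kernel, fun x => ?_,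
    by decide +kernel, by decide +kernel, by decide +kernel, by decide +kernel, by decide +kernel,
    rfl⟩
  exact ⟨fun h => (by decide +kernel : ∀ y ∈ five0 ++ 56 :: adj0, y ∈ Q0) x h,
    fun h => (by decide +kernel : ∀ y ∈ Q0, y ∈ five0 ++ 56 :: adj0) x h⟩

theorem chk_R4 : (∀ g ∈ five0, ∃ e ∈ R4, e.1 = g) ∧ ∀ e ∈ R4, Exact Q0 e.1 e.2 ∧
    e.2.length = 4 ∧ (∀ r ∈ e.2, src e.1 r ∈ five0) ∧
    ∀ r ∈ e.2, ∀ x ∈ 56 :: adj0, sgnR r x = 0 ∨ tgtR r x ∈ adj0 := by decide +kernel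

/-- The checks of one step of the chain. -/
def LvlOk (l : Lvl) : Prop :=
  l.Q.Nodup ∧ (∀ x ∈ l.Q, x ∉ l.K) ∧
  (∀ r ∈ l.Q, r < 72 ∧ ∀ x ∈ l.Q ++ l.K, x < 72 ∧ x ≠ 71 - r ∧
    (sgnR r x = 0 ∨ tgtR r x ∈ l.K)) ∧
  (l.piv.map Prod.fst).Nodup ∧
  ∀ p ∈ l.piv, p.1 ∈ l.Q ∧ p.2.2.Nodup ∧ wR p.2.1 l.s = p.1 ∧
    (∀ y ∈ l.Q ++ l.K, ∃ x ∈ l.Q ++ l.K, wR p.2.1 x = y ∧ (y = p.1 ↔ x = l.s)) ∧
    Exact (l.Q ++ l.K) p.1 p.2.2 ∧
    (∀ r ∈ p.2.2, src p.1 r ∈ l.Q) ∧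
    ∀ r ∈ p.2.2, ∀ x ∈ l.Q ++ l.K, (x ∈ l.K ∨ p.1 < x) →
      sgnR r x = 0 ∨ tgtR r x ∈ l.K ∨ (tgtR r x ∈ l.Q ++ l.K ∧ p.1 < tgtR r x)

instance (l : Lvl) : Decidable (LvlOk l) := inferInstanceAs (Decidable (_ ∧ _))

theorem chk_lvls : ∀ l ∈ lvls, LvlOk l := by
  simp only [lvls, List.forall_mem_cons, List.not_mem_nil, false_implies, implies_true, and_true]
  exact ⟨by decide +kernel, by decide +kernel, by decide +kernel, by decide +kernel,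
    by decide +kernel, by decide +kernel⟩

/-- The checks of one entry of the table of simple roots. -/
def NodeOk (s t : ℕ) (w : List (Fin 6)) : Prop :=
  wR w 56 = s ∧ (t = s ∨ ∃ x ∈ five0, wR w x = t) ∧ t ∈ wQpos w ∧ s ∈ wQpos w ∧
  36 ≤ s ∧ Exact (wQ w) s (wRM w) ∧
  (∀ r ∈ wRM w, r ≠ s ∧ r ≠ t ∧ 36 ≤ r ∧
    ∀ r' ∈ wRM w, r' ≠ 71 - r ∧ sgnR r r' = 0) ∧
  (∀ r ∈ wRM w, ∀ x ∈ wQpos w,
    sgnR r x = 0 ∨ (tgtR r x ∈ wQpos w ∧ tgtR r x ≠ s ∧ tgtR r x ≠ t)) ∧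
  (∀ x ∈ adj0, (36 ≤ wR w x ∧ wR w x ≠ s ∧ wR w x ≠ t) ∨
    ∃ r ∈ wRM w, src s r = wR w x) ∧
  (∀ r ∈ wQ w, r < 72 ∧ ∀ x ∈ wQ w, x ≠ 71 - r ∧ sgnR r x = 0)

instance (s t : ℕ) (w : List (Fin 6)) : Decidable (NodeOk s t w) :=
  inferInstanceAs (Decidable (_ ∧ _))

theorem chk_nodes : ∀ e ∈ nodeT, NodeOk e.1 e.2.1 e.2.2 := by decide +kernel

/-- Every pair of fundamental roots is covered, adjacent ones being left out. -/
theorem chk_cover : ∀ i j : Fin 6, i = j ∨ T6.cart i.val (chevE6.simple j) ≠ 0 ∨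
    ∃ e ∈ nodeT, (e.1 = chevE6.simple i ∧ e.2.1 = chevE6.simple j) ∨
      (e.1 = chevE6.simple j ∧ e.2.1 = chevE6.simple i) := by decide +kernel

theorem chk_single : ∀ i : Fin 6, ∃ e ∈ nodeT, e.1 = chevE6.simple i ∧ e.2.1 = chevE6.simple i := by
  decide +kernel

end CfsgLib.E6MinDeg
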