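import Cfsg.Agent.E6MinDeg.TorusTriv

/-!
The Hecke operators on the vectors fixed by the positive root subgroups: the quadratic relation, the
braid relation, rank one of the projections, and six independent fixed vectors.
-/

set_option autoImplicit false
set_option linter.style.haveILetI false
set_option linter.unusedSectionVars false

namespace CfsgLib.E6MinDeg

open Cfsg.Lie CfsgLib.Chev CfsgLib.Chev.Tab Module CfsgLib.MinDeg

theorem chk_orth : ∀ i j : Fin 6, i ≠ j → T6.cart i.val (sR j) = 0 →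
    ∀ a ∈ [sR i, 71 - sR i], ∀ b ∈ [sR j, 71 - sR j], b ≠ 71 - a ∧ sgnR a b = 0 := by
  decide +kernel

theorem chk_adj : ∀ i j : Fin 6, T6.cart i.val (sR j) = -1 →
    T6.reflT j.val (sR i) = T6.reflT i.val (sR j) ∧
    T6.reflT i.val (T6.reflT i.val (sR j)) = sR j ∧
    tgtR (sR j) (sR i) = T6.reflT i.val (sR j) ∧ sR i ≠ 71 - sR j ∧
    (sR i ≠ 71 - T6.reflT i.val (sR j) ∧ sgnR (T6.reflT i.val (sR j)) (sR i) = 0) ∧
    (∀ s ∈ posL, wR [j, i, j, i, j, i] s ∈ posL) ∧
    ∀ s ∈ posL, wR [j, i, j, j, i, j] s ∈ posL := by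
  decide +kernel

theorem chk_nbr : ∀ i : Fin 6, ∃ j : Fin 6, T6.cart j.val (sR i) = -1 := by decide +kernel

variable {F : Type*} [Field F]

theorem xg_commute_orth {i j : Fin 6} (hij : i ≠ j) (h0 : T6.cart i.val (sR j) = 0) {a b : ℕ}
    (ha : a ∈ [sR i, 71 - sR i]) (hb : b ∈ [sR j, 71 - sR j]) (t u : F) :
    Commute (xg a t) (xg b u) := by
  obtain ⟨hn, hs⟩ := chk_orth i j hij h0 a ha b hb
  have h72 : ∀ (k : Fin 6) (c : ℕ), c ∈ [sR k, 71 - sR k] → c < 72 := fun k c hc => by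
    have := simple_lt k
    rcases List.mem_cons.1 hc with rfl | hc
    · exact this
    · rw [List.mem_singleton] at hc; omega
  exact (xg_comm (h72 i a ha) (h72 j b hb) hn hs t u).symm

theorem nF_commute_xg {i j : Fin 6} (hij : i ≠ j) (h0 : T6.cart i.val (sR j) = 0) {b : ℕ}
    (hb : b ∈ [sR j, 71 - sR j]) (u : F) : Commute (nF i) (xg b u) := by
  rw [nF, nT_def]
  exact Commute.mul_left (Commute.mul_left
    (xg_commute_orth hij h0 (List.mem_cons_self ..) hb _ _)
    (xg_commute_orth hij h0 (List.mem_cons_of_mem _ (List.mem_cons_self ..)) hb _ _))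
    (xg_commute_orth hij h0 (List.mem_cons_self ..) hb _ _)

theorem nF_commute {i j : Fin 6} (hij : i ≠ j) (h0 : T6.cart i.val (sR j) = 0) :
    Commute (nF (F := F) i) (nF j) := by
  conv_rhs => rw [nF, nT_def]
  exact Commute.mul_right (Commute.mul_right
    (nF_commute_xg hij h0 (List.mem_cons_self ..) _)
    (nF_commute_xg hij h0 (List.mem_cons_of_mem _ (List.mem_cons_self ..)) _))
    (nF_commute_xg hij h0 (List.mem_cons_self ..) _)

theorem pw_val : ∀ (L : List (Fin 6)) (s : Fin chevE6.nroots),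
    (good_E6.full.pw (L.map ix) s).val = wR L s.val
  | [], _ => rfl
  | i :: L, s => by
    rw [List.map_cons, good_E6.pw_cons, Equiv.Perm.mul_apply]
    show T6.reflT i.val (good_E6.full.pw (L.map ix) s).val = _
    rw [pw_val L s]
    rfl

theorem coe_nW : ∀ L : List (Fin 6),
    (nW (F := F) L : GL chevE6.Idx F) = good_E6.full.nw F (L.map ix)
  | [] => rfl
  | i :: L => by
    rw [List.map_cons, good_E6.nw_cons, ← coe_nW L]
    rfl

variable [Fintype F] {V : Type*} [AddCommGroup V] [Module ℂ V]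
  [FiniteDimensional ℂ V] (ρ : Representation ℂ (chevE6.group F) V) (ψ : AddChar F ℂ)

theorem rootSum_mov {g : chevE6.group F} {r r' : ℕ} {c : F} (hc : c ≠ 0)
    (h : ∀ u, g * xg r u * g⁻¹ = xg r' (c * u)) (v : V) :
    ρ g (rootSum ρ r v) = rootSum ρ r' (ρ g v) := by
  rw [rootSum_apply, rootSum_apply, map_sum]
  refine Fintype.sum_equiv (Equiv.mulLeft₀ c hc) _ _ fun t => ?_
  rw [Equiv.mulLeft₀_apply, ← h t, ← Module.End.mul_apply, ← map_mul, ← Module.End.mul_apply,
    ← map_mul]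
  group

theorem rootSum_comm {g : chevE6.group F} {r : ℕ} (h : ∀ u, Commute g (xg r u)) (v : V) :
    ρ g (rootSum ρ r v) = rootSum ρ r (ρ g v) :=
  rootSum_mov ρ one_ne_zero (fun u => by rw [one_mul, (h u).eq, mul_inv_cancel_right]) v

/-- The projection of a node on the fixed vectors. -/
noncomputable def pH (i : Fin 6) : V →ₗ[ℂ] V :=
  ((Fintype.card F : ℂ) + 1)⁻¹ • ((Fintype.card F : ℂ) • LinearMap.id - hecke ρ i)

theorem card_add_one_ne : (Fintype.card F : ℂ) + 1 ≠ 0 := by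
  exact_mod_cast Nat.succ_ne_zero (Fintype.card F)

theorem pH_apply (i : Fin 6) (f : V) : pH ρ i f =
    ((Fintype.card F : ℂ) + 1)⁻¹ • ((Fintype.card F : ℂ) • f - hecke ρ i f) := rfl

theorem hecke_eq (i : Fin 6) (f : V) : hecke ρ i f =
    (Fintype.card F : ℂ) • f - ((Fintype.card F : ℂ) + 1) • pH ρ i f := by
  rw [pH_apply, smul_smul, mul_inv_cancel₀ card_add_one_ne, one_smul, sub_sub_cancel]

theorem pH_mem {i : Fin 6} {f : V} (hf : f ∈ fixU ρ ψ) : pH ρ i f ∈ fixU ρ ψ := by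
  rw [pH_apply]
  exact Submodule.smul_mem _ _ (Submodule.sub_mem _ (Submodule.smul_mem _ _ hf) (hecke_mem ρ ψ hf))

theorem rootSum_fix {r : ℕ} {f : V} (h : ∀ u, ρ (xg r u) f = f) :
    rootSum ρ r f = (Fintype.card F : ℂ) • f := by
  rw [rootSum_apply, Finset.sum_congr rfl fun u _ => h u, Finset.sum_const, Finset.card_univ,
    ← Nat.cast_smul_eq_nsmul ℂ]

variable {ρ ψ} (H : Small ρ ψ)
include H

theorem Small.nF_nF {f : V} (hf : f ∈ fixU ρ ψ) (i : Fin 6) : ρ (nF i) (ρ (nF i) f) = f := by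
  rw [← Module.End.mul_apply, ← map_mul, nF_sq, H.tor_trivial hf]

theorem Small.nF_hecke {f : V} (hf : f ∈ fixU ρ ψ) (i : Fin 6) :
    ρ (nF i) (hecke ρ i f) = f + hecke ρ i f - ρ (nF i) f := by
  classical
  have hterm : ∀ v : F, v ≠ 0 →
      ρ (nF i) (ρ (xg (sR i) v) (ρ (nF i) f)) = ρ (xg (sR i) (-v⁻¹)) (ρ (nF i) f) := by
    intro v hv
    rw [← Module.End.mul_apply (ρ (xg _ v)), ← map_mul, ← Module.End.mul_apply, ← map_mul,
      ← mul_assoc, nF_opp i hv, nF_sq, map_mul, Module.End.mul_apply, H.tor_trivial hf, map_mul,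
      map_mul, Module.End.mul_apply, Module.End.mul_apply, fix_apply ρ ψ hf (sR_mem i),
      show (v⁻¹ : F) = ((Units.mk0 v⁻¹ (inv_ne_zero hv) : Fˣ) : F) from rfl, nT_eq, tor_swap,
      map_mul, Module.End.mul_apply, H.tor_trivial hf]
  rw [hecke, LinearMap.comp_apply, rootSum_apply, map_sum,
    ← Finset.add_sum_erase Finset.univ _ (Finset.mem_univ (0 : F)),
    ← Finset.add_sum_erase Finset.univ (fun t => ρ (xg (sR i) t) (ρ (nF i) f))
      (Finset.mem_univ (0 : F)), xg_zero, map_one, Module.End.one_apply, H.nF_nF hf i,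
    add_sub_assoc, add_sub_cancel_left]
  congr 1
  refine Finset.sum_nbij' (fun v => -v⁻¹) (fun v => -v⁻¹) (fun v hv => ?_) (fun v hv => ?_)
    (fun v _ => by simp [inv_neg]) (fun v _ => by simp [inv_neg]) fun v hv => hterm v ?_
  · exact Finset.mem_erase.2 ⟨by simpa using Finset.ne_of_mem_erase hv, Finset.mem_univ _⟩
  · exact Finset.mem_erase.2 ⟨by simpa using Finset.ne_of_mem_erase hv, Finset.mem_univ _⟩
  · exact Finset.ne_of_mem_erase hv

theorem Small.hecke_sq {f : V} (hf : f ∈ fixU ρ ψ) (i : Fin 6) :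
    hecke ρ i (hecke ρ i f) =
      (Fintype.card F : ℂ) • f + ((Fintype.card F : ℂ) - 1) • hecke ρ i f := by
  conv_lhs => rw [hecke, LinearMap.comp_apply, ← hecke, H.nF_hecke hf i, map_sub, map_add,
    rootSum_fix ρ (fun u => fix_apply ρ ψ hf (sR_mem i) u),
    rootSum_fix ρ (fun u => fix_apply ρ ψ (hecke_mem ρ ψ hf) (sR_mem i) u)]
  rw [show rootSum ρ (sR i) (ρ (nF i) f) = hecke ρ i f from rfl, sub_smul, one_smul, add_sub_assoc]

theorem Small.pH_idem {f : V} (hf : f ∈ fixU ρ ψ) (i : Fin 6) :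
    pH ρ i (pH ρ i f) = pH ρ i f := by
  have h := H.hecke_sq hf i
  rw [hecke_eq, hecke_eq ρ i f, map_sub, map_smul, map_smul] at h
  have hq := card_add_one_ne (F := F)
  have h2 : ((Fintype.card F : ℂ) + 1) • ((Fintype.card F : ℂ) + 1) •
      (pH ρ i (pH ρ i f) - pH ρ i f) = 0 := by
    rw [← sub_eq_zero] at h
    rw [← h]
    module
  rcases smul_eq_zero.1 h2 with e | e
  · exact absurd e hq
  rcases smul_eq_zero.1 e with e' | e'
  · exact absurd e' hq
  · exact sub_eq_zero.1 e'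

theorem Small.nF_of_pH {f : V} (hf : f ∈ fixU ρ ψ) {i : Fin 6} (h : pH ρ i f = 0) :
    ρ (nF i) f = f := by
  have hT : hecke ρ i f = (Fintype.card F : ℂ) • f := by rw [hecke_eq, h, smul_zero, sub_zero]
  have h1 := H.nF_hecke hf i
  rw [hT, map_smul] at h1
  have h2 : ((Fintype.card F : ℂ) + 1) • (ρ (nF i) f - f) = 0 := by
    rw [← sub_eq_zero] at h1
    rw [← h1]
    module
  exact sub_eq_zero.1 ((smul_eq_zero.1 h2).resolve_left card_add_one_ne)

theorem Small.neg_of_pH {f : V} (hf : f ∈ fixU ρ ψ) {i : Fin 6} (h : pH ρ i f = 0) (u : F) :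
    ρ (xg (71 - sR i) u) f = f :=
  neg_fix ρ (fun t => by rw [H.nF_of_pH hf h]; exact fix_apply ρ ψ hf (sR_mem i) t) u

omit H in
theorem pH_of_nF {f : V} (hf : f ∈ fixU ρ ψ) {i : Fin 6} (h : ρ (nF i) f = f) :
    pH ρ i f = 0 := by
  have hT : hecke ρ i f = (Fintype.card F : ℂ) • f := by
    rw [hecke, LinearMap.comp_apply, h, rootSum_fix ρ fun u => fix_apply ρ ψ hf (sR_mem i) u]
  rw [pH_apply, hT, sub_self, smul_zero]

theorem Small.comp_zero {f : V} (hf : f ∈ fixU ρ ψ) {i : Fin 6} {a : F} (ha : a ≠ 0)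
    (h : comp ρ ψ i a f = 0) : pH ρ i f = 0 := by
  obtain ⟨j, hj⟩ := chk_nbr i
  have hall : ∀ b : F, b ≠ 0 → comp ρ ψ i b f = 0 := by
    intro b hb
    set u : Fˣ := Units.mk0 (a / b) (div_ne_zero ha hb) with hu
    by_contra hne
    refine rho_inj ρ (g := tor j u) hne ?_
    rw [← h, comp, comp, LinearMap.comp_apply, LinearMap.comp_apply, proj_apply, proj_apply,
      map_smul, map_sum]
    congr 1
    refine Fintype.sum_equiv (Equiv.mulLeft₀ ((u⁻¹ : Fˣ) : F) (Units.ne_zero _)) _ _ fun t => ?_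
    rw [map_smul, Equiv.mulLeft₀_apply, eX_apply, eX_apply, AddChar.mulShift_apply,
      AddChar.mulShift_apply]
    have hx : tor j u * xg (sR i) t = xg (sR i) (((u⁻¹ : Fˣ) : F) * t) * tor j u := by
      have := tor_conj j (simple_lt i) u t
      rw [hj, zpow_neg, zpow_one, mul_inv_eq_iff_eq_mul] at this
      exact this
    have hn : ρ (tor j u) (ρ (nF i) f) = ρ (nF i) f := by
      rw [← Module.End.mul_apply, ← map_mul, tor_past, map_mul, map_mul, Module.End.mul_apply,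
        Module.End.mul_apply, H.tor_trivial hf, H.tor_trivial hf]
    rw [← Module.End.mul_apply (ρ (tor j u)), ← map_mul ρ, hx, map_mul ρ, Module.End.mul_apply, hn]
    congr 2
    rw [hu, Units.val_inv_eq_inv_val, Units.val_mk0]
    field_simp
  refine pH_of_nF hf (nT_fix ρ (fun t => fix_apply ρ ψ hf (sR_mem i) t) ?_ 1)
  exact neg_fix ρ (fix_of_proj ρ ψ H.prim fun b hb => hall b hb)

theorem Small.pH_rank {i : Fin 6} {f0 g : V} (hf0 : f0 ∈ fixU ρ ψ) (hne : pH ρ i f0 ≠ 0)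
    (hg : g ∈ fixU ρ ψ) : ∃ c : ℂ, pH ρ i g = c • pH ρ i f0 := by
  set f := pH ρ i f0 with hf
  have hfm : f ∈ fixU ρ ψ := pH_mem ρ ψ hf0
  have hA : comp ρ ψ i 1 f ≠ 0 := fun h => hne (by
    have := H.comp_zero hfm one_ne_zero h
    rwa [hf, H.pH_idem hf0] at this)
  have h1 : finrank ℂ (W ρ ψ posL (dl (sR i) (1 : F))) = 1 :=
    le_antisymm (H.U_le i one_ne_zero) (one_le_dW ρ ψ (comp_mem ρ ψ hfm) hA)
  obtain ⟨c, hc⟩ := exists_smul_eq_of_finrank_eq_one h1
    (x := (⟨_, comp_mem ρ ψ hfm⟩ : W ρ ψ posL (dl (sR i) (1 : F))))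
    (fun h => hA (congrArg Subtype.val h)) ⟨_, comp_mem ρ ψ hg⟩
  refine ⟨c, ?_⟩
  have hc' : comp ρ ψ i 1 (g - c • f) = 0 := by
    rw [map_sub, map_smul, sub_eq_zero]
    exact (congrArg Subtype.val hc).symm
  have := H.comp_zero (Submodule.sub_mem _ hg (Submodule.smul_mem _ c hfm)) one_ne_zero hc'
  rwa [map_sub, map_smul, hf, H.pH_idem hf0, sub_eq_zero] at this

theorem Small.pH_orth {i j : Fin 6} (hij : i ≠ j) (h0 : T6.cart i.val (sR j) = 0) {f : V}
    (hf : f ∈ fixU ρ ψ) : pH ρ j (pH ρ i f) = 0 := by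
  refine H.comp_zero (pH_mem ρ ψ hf) one_ne_zero ?_
  set z := comp ρ ψ j 1 f with hz
  obtain ⟨hp, hm⟩ := H.fixed_of_orth hij h0 one_ne_zero (comp_mem ρ ψ hf (i := j) (a := (1 : F)))
  have hT : hecke ρ i z = (Fintype.card F : ℂ) • z := by
    rw [hecke, LinearMap.comp_apply, show ρ (nF i) z = z from nT_fix ρ hp hm 1,
      rootSum_fix ρ hp]
  have hcomm : hecke ρ i z = comp ρ ψ j 1 (hecke ρ i f) := by
    have hg : ∀ (g : chevE6.group F), (∀ t, Commute g (xg (sR i) t)) → Commute g (nF i) →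
        ∀ v, ρ g (hecke ρ i v) = hecke ρ i (ρ g v) := fun g h1 h2 v => by
      rw [hecke, LinearMap.comp_apply, LinearMap.comp_apply, rootSum_comm ρ h1,
        ← Module.End.mul_apply (ρ g), ← map_mul, h2.eq, map_mul, Module.End.mul_apply]
    rw [hz, comp, LinearMap.comp_apply, LinearMap.comp_apply, proj_apply, proj_apply, map_smul,
      map_sum]
    congr 1
    refine Finset.sum_congr rfl fun t _ => ?_
    rw [map_smul, eX_apply,
      hg (nF j) (fun u => nF_commute_xg hij.symm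
        ((((chk_simple i).2.2.2.2.2.2.2.2 j).1).trans h0) (List.mem_cons_self ..) u)
        (nF_commute hij h0).symm,
      hg (xg (sR j) t) (fun u => (xg_commute_orth hij h0 (List.mem_cons_self ..)
        (List.mem_cons_self ..) u t).symm)
        (nF_commute_xg hij h0 (List.mem_cons_self ..) t).symm]
  rw [pH_apply, map_smul, map_sub, map_smul, ← hcomm, hT, sub_self, smul_zero]

theorem Small.eTor_fix {f : V} (hf : f ∈ fixU ρ ψ) (c : Fin chevE6.rank → Fˣ) :
    ρ (eTor (Multiplicative.ofAdd fun i => Additive.ofMul (c i))) f = f := by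
  induction c using good_E6.full.hT_induction with
  | h1 =>
    rw [show (fun i => Additive.ofMul ((1 : Fin chevE6.rank → Fˣ) i)) = 0 from rfl, ofAdd_zero,
      map_one, map_one, Module.End.one_apply]
  | hm a b ha hb =>
    rw [show (fun i => Additive.ofMul ((a * b) i)) =
      (fun i => Additive.ofMul (a i)) + fun i => Additive.ofMul (b i) from rfl, ofAdd_add, map_mul,
      map_mul, Module.End.mul_apply, hb, ha]
  | hs k u =>
    rw [show eTor (Multiplicative.ofAdd fun i => Additive.ofMul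
      ((Pi.mulSingle k u : Fin chevE6.rank → Fˣ) i)) = tor ⟨k.val, k.isLt⟩ u from Subtype.ext rfl]
    exact H.tor_trivial hf _ u

/-- A word preserving the positive roots fixes the fixed vectors. -/
theorem Small.nW_fix {f : V} (hf : f ∈ fixU ρ ψ) {L : List (Fin 6)}
    (hL : ∀ s ∈ posL, wR L s ∈ posL) : ρ (nW L) f = f := by
  obtain ⟨c, hc⟩ := good_E6.nw_mem_torus (F := F) _ (L.map ix) rfl fun s hs => by
    have h36 : 36 ≤ s.val := by
      have := hs.2
      change 72 ≤ 2 * s.val at this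
      omega
    have h := mem_posL.1 (hL s.val (mem_posL.2 ⟨h36, s.isLt⟩))
    rw [← pw_val] at h
    exact ⟨(good_E6.full.pw (L.map ix) s).isLt, by show 72 ≤ 2 * _; omega⟩
  rw [show nW (F := F) L = eTor (Multiplicative.ofAdd fun i => Additive.ofMul (c i)) from
    Subtype.ext ((coe_nW L).trans hc)]
  exact H.eTor_fix hf c

theorem Small.braid {i j : Fin 6} (h : T6.cart i.val (sR j) = -1) {f : V}
    (hf : f ∈ fixU ρ ψ) :
    hecke ρ i (hecke ρ j (hecke ρ i f)) = hecke ρ j (hecke ρ i (hecke ρ j f)) := by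
  have h' : T6.cart j.val (sR i) = -1 := by
    rw [((chk_simple i).2.2.2.2.2.2.2.2 j).1]; exact h
  obtain ⟨hjk, hik, htg, hne, ⟨hnk, hsk⟩, hw1, hw2⟩ := chk_adj i j h
  obtain ⟨-, hjk2, -, -, ⟨hnk', hsk'⟩, -, -⟩ := chk_adj j i h'
  set k := T6.reflT i.val (sR j) with hk
  rw [hjk] at hjk2 hnk' hsk'
  have hmove : ∀ (a : Fin 6) (r : ℕ), r < 72 → ∀ v : V,
      ρ (nF a) (rootSum ρ r v) = rootSum ρ (T6.reflT a.val r) (ρ (nF a) v) := by
    intro a r hr v
    obtain ⟨c, hc, hc'⟩ := nT_act a hr (one_ne_zero (α := F))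
    exact rootSum_mov ρ hc hc' v
  have hk72 : k < 72 := (good_E6.full.reflT_spec i.isLt (simple_lt j)).1
  have hcomb : ∀ g : V, ρ (nF i) (rootSum ρ (sR j) (ρ (nF j) (rootSum ρ (sR i) g))) =
      rootSum ρ k (rootSum ρ (sR j) (ρ (nF i) (ρ (nF j) g))) := fun g => by
    rw [hmove i _ (simple_lt j), ← hk, hmove j _ (simple_lt i), hjk, hmove i _ hk72, hik]
  have hcomb' : ∀ g : V, ρ (nF j) (rootSum ρ (sR i) (ρ (nF i) (rootSum ρ (sR j) g))) =
      rootSum ρ k (rootSum ρ (sR i) (ρ (nF j) (ρ (nF i) g))) := fun g => by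
    rw [hmove j _ (simple_lt i), hjk, hmove i _ (simple_lt j), ← hk, hmove j _ hk72, hjk2]
  have hN : ρ (nF i) (ρ (nF j) (ρ (nF i) f)) = ρ (nF j) (ρ (nF i) (ρ (nF j) f)) := by
    have e1 := H.nW_fix hf hw1
    have e2 := H.nW_fix hf hw2
    simp only [nW, map_mul, mul_one, Module.End.mul_apply] at e1 e2
    have hinj : ∀ (a : Fin 6) (y z : V), ρ (nF a) y = ρ (nF a) z → y = z := fun a y z e => by
      have := congrArg (ρ (nF a)⁻¹) e
      rwa [← Module.End.mul_apply, ← Module.End.mul_apply, ← map_mul, inv_mul_cancel,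
        map_one] at this
    exact hinj j _ _ (hinj i _ _ (hinj j _ _ (e1.trans e2.symm)))
  have hswap : ∀ v : V, rootSum ρ (sR i) (rootSum ρ k (rootSum ρ (sR j) v)) =
      rootSum ρ (sR j) (rootSum ρ k (rootSum ρ (sR i) v)) := by
    intro v
    have hci : ∀ u u' : F, Commute (xg (sR i) u) (xg k u') := fun u u' =>
      xg_comm hk72 (simple_lt i) hnk hsk u' u
    have hcj : ∀ u u' : F, Commute (xg (sR j) u) (xg k u') := fun u u' =>
      xg_comm hk72 (simple_lt j) hnk' hsk' u' u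
    have h1 : ∀ (r : ℕ) (v : V), (∀ u u' : F, Commute (xg r u) (xg k u')) →
        rootSum ρ k (rootSum ρ r v) = rootSum ρ r (rootSum ρ k v) := fun r v hr => by
      rw [rootSum_apply ρ r v, map_sum, rootSum_apply ρ r (rootSum ρ k v)]
      exact Finset.sum_congr rfl fun u _ => (rootSum_comm ρ (fun u' => hr u u') v).symm
    rw [h1 _ _ hcj, h1 _ _ hci]
    set y := rootSum ρ k v
    rw [rootSum_apply ρ (sR i), rootSum_apply ρ (sR j) (rootSum ρ (sR i) y)]
    simp only [rootSum_apply ρ (sR j), rootSum_apply ρ (sR i), map_sum]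
    rw [Finset.sum_comm]
    refine Finset.sum_congr rfl fun w _ => Finset.sum_congr rfl fun u _ => ?_
    rw [← Module.End.mul_apply, ← map_mul, xg_swap (simple_lt j) (simple_lt i) hne w u, htg,
      map_mul, map_mul, Module.End.mul_apply, Module.End.mul_apply]
    congr 2
    exact rootSum_shift ρ k _ v
  simp only [hecke, LinearMap.comp_apply]
  rw [hcomb, hcomb', hN, hswap]

theorem Small.pH_braid {i j : Fin 6} (h : T6.cart i.val (sR j) = -1) {f : V}
    (hf : f ∈ fixU ρ ψ) :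
    ((Fintype.card F : ℂ) + 1) ^ 2 • pH ρ i (pH ρ j (pH ρ i f)) -
        (Fintype.card F : ℂ) • pH ρ i f =
      ((Fintype.card F : ℂ) + 1) ^ 2 • pH ρ j (pH ρ i (pH ρ j f)) -
        (Fintype.card F : ℂ) • pH ρ j f := by
  have e := H.braid h hf
  simp only [hecke_eq, map_sub, map_smul, H.pH_idem hf] at e
  rw [← sub_eq_zero] at e
  have h2 : ((Fintype.card F : ℂ) + 1) • ((((Fintype.card F : ℂ) + 1) ^ 2 •
      pH ρ i (pH ρ j (pH ρ i f)) - (Fintype.card F : ℂ) • pH ρ i f) -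
      (((Fintype.card F : ℂ) + 1) ^ 2 • pH ρ j (pH ρ i (pH ρ j f)) -
        (Fintype.card F : ℂ) • pH ρ j f)) = 0 := by
    rw [← neg_eq_zero, ← e]
    module
  exact sub_eq_zero.1 ((smul_eq_zero.1 h2).resolve_left card_add_one_ne)

end CfsgLib.E6MinDeg
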