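import Cfsg.Agent.E6MinDeg.Orbit

/-!
In a representation of small degree the character of a single root occurs once in the radical; so
the eigenvectors of the positive root subgroups form lines and are supported at one fundamental
root, except possibly at adjacent ones.
-/

set_option autoImplicit false
set_option linter.style.haveILetI false
set_option linter.unusedSectionVars false

namespace CfsgLib.E6MinDeg

open Cfsg.Lie CfsgLib.Chev CfsgLib.Chev.Tab Module CfsgLib.MinDeg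

/-- The bound. -/
def bnd (q : ℕ) : ℕ := q * (q ^ 6 + q ^ 3 + 1) * (q ^ 4 + 1)

theorem bnd_lt {q : ℕ} (hq : 2 ≤ q) : bnd q < q ^ 14 := by
  obtain ⟨k, rfl⟩ := Nat.exists_eq_add_of_le hq
  rw [bnd]
  ring_nf
  have pw : ∀ n : ℕ, 0 ≤ k ^ n := fun n => Nat.zero_le _
  linarith [Nat.zero_le k, pw 1, pw 2, pw 3, pw 4, pw 5, pw 6, pw 7, pw 8, pw 9, pw 10, pw 11, pw 12, pw 13, pw 14]

theorem bnd_le_two {q : ℕ} (hq : 2 ≤ q) : bnd q ≤ 2 * lvlCard q lvl0 := by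
  obtain ⟨k, rfl⟩ := Nat.exists_eq_add_of_le hq
  simp only [bnd, lvlCard, lvl0, List.map_cons, List.map_nil, List.sum_cons, List.sum_nil,
    List.length_cons, List.length_nil]
  rw [show 2 + k - 1 = k + 1 by omega]
  ring_nf
  have pw : ∀ n : ℕ, 0 ≤ k ^ n := fun n => Nat.zero_le _
  linarith [Nat.zero_le k, pw 1, pw 2, pw 3, pw 4, pw 5, pw 6, pw 7, pw 8, pw 9, pw 10, pw 11, pw 12, pw 13, pw 14]

/-- The positive roots outside the radical and the roots fixing the lowest line. -/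
theorem chk_stab : ∀ r ∈ List.range' 36 20, ∃ r1 < 72, ∃ r2 < 72,
    tgtR r1 r2 = r ∧ sgnR r1 r2 ≠ 0 ∧ r2 ≠ 71 - r1 ∧
    (Mov r1 Q0 ∧ ∀ x ∈ Q0, sgnR r1 x = 0 ∨ tgtR r1 x ≠ 56) ∧
    (Mov r2 Q0 ∧ ∀ x ∈ Q0, sgnR r2 x = 0 ∨ tgtR r2 x ≠ 56) := by decide +kernel

theorem mem_posL {x : ℕ} : x ∈ posL ↔ 36 ≤ x ∧ x < 72 := by simp [posL]

theorem mem_wQpos {w : List (Fin 6)} {x : ℕ} : x ∈ wQpos w ↔ x ∈ wQ w ∧ 36 ≤ x := by
  simp [wQpos, Nat.ble_eq]

theorem mem_wRM {w : List (Fin 6)} {x : ℕ} (h : x ∈ wRM w) : 36 ≤ x := by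
  simp [wRM] at h
  exact h.2

variable {F : Type*} [Field F]

theorem wS_ne (w : List (Fin 6)) {s : ℕ} (hs : s < 72) : (wS w s : F) ≠ 0 := fun h => by
  have := wS_sq (F := F) w hs
  rw [h, zero_mul] at this
  exact zero_ne_one this

/-- The function supported at two roots. -/
def dl2 (s : ℕ) (a : F) (t : ℕ) (b : F) (x : ℕ) : F := if x = s then a else if x = t then b else 0

theorem dl2_self (s : ℕ) (a : F) : dl2 s a s a = dl s a := funext fun x => by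
  simp only [dl2, dl]; split_ifs <;> rfl

variable [Fintype F] {V : Type*} [AddCommGroup V] [Module ℂ V] [FiniteDimensional ℂ V]
  (ρ : Representation ℂ (chevE6.group F) V) (ψ : AddChar F ℂ)

/-- The standing hypotheses: small degree and a faithful first root subgroup. -/
structure Small : Prop where
  prim : ψ.IsPrimitive
  small : finrank ℂ V < bnd (Fintype.card F)
  moves : ρ (xg 56 (1 : F)) ≠ 1

variable {ρ ψ} (H : Small ρ ψ)
include H

theorem Small.lt_pow : finrank ℂ V < Fintype.card F ^ 14 :=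
  lt_trans H.small (bnd_lt Fintype.one_lt_card)

theorem Small.exists_line : ∃ a : F, a ≠ 0 ∧ dW ρ ψ Q0 (dl 56 a) ≠ 0 := by
  obtain ⟨a, ha, he⟩ := G2MinDeg.exists_eig_ne_zero ρ eX ψ H.prim (r := 56) (u := (1 : F))
    (by rw [eX_apply]; exact H.moves)
  have hW : W ρ ψ [56] (dl 56 a) ≠ ⊥ := by
    intro h
    refine he (le_bot_iff.1 (le_trans ?_ h.le))
    intro v hv
    refine (mem_W ρ ψ).2 fun x hx u => ?_
    rw [List.mem_singleton] at hx
    subst hx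
    rw [dl_self, ← eX_apply]
    exact (G2MinDeg.mem_eig ρ eX ψ).1 hv u
  have hext : Extends Q0 [56] (dl 56 a) := fun r hr => by
    have := (by decide +kernel : ∀ r ∈ Q0, r < 72 ∧ ∀ x ∈ Q0 ++ [56],
      x < 72 ∧ x ≠ 71 - r ∧ sgnR r x = 0) r hr
    exact ⟨this.1, fun x hx => ⟨(this.2 x hx).1, (this.2 x hx).2.1, Or.inl (this.2 x hx).2.2⟩⟩
  obtain ⟨P, hP, hne⟩ := exists_extension ρ ψ H.prim hext hW
  have h56 : P 56 = a := by rw [hP 56 (List.mem_singleton_self _), dl_self]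
  obtain ⟨hex, -, -, hadj, -⟩ := chk_base
  set P' := mvs (R10.map fun r => (r, clearT 56 P r)) P with hP'
  have h56' : P' 56 = a := by rw [hP', (mvs_exact hex _ P).1, h56]
  have hadj' : ∀ x ∈ adj0, P' x = 0 := fun x hx => by
    obtain ⟨r, hr, rfl⟩ := hadj x hx
    exact mvs_clear hex (h56 ▸ ha) r hr
  have hne' : dW ρ ψ Q0 P' ≠ 0 := by
    intro h
    refine hne (Submodule.finrank_eq_zero.1 (Nat.le_zero.1 (le_trans ?_ h.le)))
    refine le_trans (Submodule.finrank_mono (W_mono ρ ψ fun x hx =>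
      ⟨List.mem_append_left _ hx, rfl⟩)) ?_
    exact dW_le_mvs ρ ψ (fun p hp => by
      obtain ⟨r, hr, rfl⟩ := List.mem_map.1 hp
      exact (hex.2.2 r hr).1) P
  refine ⟨a, ha, ?_⟩
  rwa [← dW_congr ρ ψ (P := P') fun x hx => by
    rw [single0 ρ ψ H.prim H.lt_pow (h56' ▸ ha) hadj' hne' x hx, h56']]

theorem Small.line_eq {a b : F} (ha : a ≠ 0) (hb : b ≠ 0) :
    dW ρ ψ Q0 (dl 56 a) ≤ dW ρ ψ Q0 (dl 56 b) :=
  dW_dl_torus ρ ψ (by decide +kernel) (j := 2) (by decide +kernel) ha hb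

theorem Small.line_le (a : F) (ha : a ≠ 0) : dW ρ ψ Q0 (dl 56 a) ≤ 1 := by
  by_contra hc
  have key := lvl_count ρ ψ H.prim (l := lvl0) (by simp [lvls]) (m := 2) fun b hb => by
    rw [show lvl0.s = 56 from rfl, show lvl0.Q ++ lvl0.K = Q0 by decide +kernel]
    exact le_trans (not_le.1 hc) (H.line_eq ha hb)
  have h1 := dW_le ρ ψ lvl0.K (fun _ => (0 : F))
  have h2 := bnd_le_two (q := Fintype.card F) Fintype.one_lt_card
  have h3 := H.small
  omega

theorem Small.line_pos (a : F) (ha : a ≠ 0) : dW ρ ψ Q0 (dl 56 a) ≠ 0 := by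
  obtain ⟨b, hb, hne⟩ := H.exists_line
  exact fun h => hne (Nat.le_zero.1 (h ▸ H.line_eq hb ha))

/-- The positive root subgroups outside the radical fix the line. -/
theorem Small.line_fix {a : F} (ha : a ≠ 0) {v : V} (hv : v ∈ W ρ ψ Q0 (dl 56 a)) {r : ℕ}
    (hr : r ∈ List.range' 36 20) (c : F) : ρ (xg r c) v = v := by
  obtain ⟨r1, hr1, r2, hr2, htg, hsg, hne, ⟨hm1, hp1⟩, ⟨hm2, hp2⟩⟩ := chk_stab r hr
  rcases eq_or_ne v 0 with rfl | hv0
  · rw [map_zero]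
  have hdim : finrank ℂ (W ρ ψ Q0 (dl 56 a)) = 1 :=
    le_antisymm (H.line_le a ha) (one_le_dW ρ ψ hv hv0)
  have hscal : ∀ {r' : ℕ}, Mov r' Q0 → (∀ x ∈ Q0, sgnR r' x = 0 ∨ tgtR r' x ≠ 56) →
      ∀ t : F, ∃ d : ℂ, ρ (xg r' t) v = d • v := fun {r'} hm hp t => by
    have hin := preserve ρ ψ hm t (P := dl 56 a)
      (fun x hx => (hp x hx).imp id fun h => dl_ne _ h) hv
    obtain ⟨d, hd⟩ := exists_smul_eq_of_finrank_eq_one hdim
      (x := (⟨v, hv⟩ : W ρ ψ Q0 (dl 56 a))) (fun h => hv0 (congrArg Subtype.val h)) ⟨_, hin⟩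
    exact ⟨d, (congrArg Subtype.val hd).symm⟩
  have hs := sgn_cast_ne (F := F) hr1 hr2 hne hsg
  set u : F := -c / (sgnR r1 r2 : F)
  obtain ⟨d1, h1⟩ := hscal hm1 hp1 1
  obtain ⟨d2, h2⟩ := hscal hm2 hp2 u
  have e := congrArg (fun g => ρ g v) (xg_swap hr1 hr2 hne (1 : F) u)
  rw [htg, show -((sgnR r1 r2 : F) * 1 * u) = c by simp only [u]; field_simp] at e
  simp only [map_mul, Module.End.mul_apply] at e
  rw [h1, map_smul, h2, smul_smul] at e
  have hinj : ∀ {g : chevE6.group F} {y z : V}, ρ g y = ρ g z → y = z := fun {g y z} h => by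
    have := congrArg (ρ g⁻¹) h
    rwa [← Module.End.mul_apply, ← Module.End.mul_apply, ← map_mul, inv_mul_cancel, map_one] at this
  refine hinj (g := xg r2 u) (hinj (g := xg r1 (1 : F)) ?_)
  rw [← e, h2, map_smul, h1, smul_smul, mul_comm]

/-- The first line consists of eigenvectors of all positive root subgroups. -/
theorem Small.U1_eq {a : F} (ha : a ≠ 0) : W ρ ψ posL (dl 56 a) = W ρ ψ Q0 (dl 56 a) := by
  refine le_antisymm (W_mono ρ ψ fun x hx => ⟨(by decide +kernel : ∀ x ∈ Q0, x ∈ posL) x hx, rfl⟩)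
    fun v hv => (mem_W ρ ψ).2 fun x hx u => ?_
  rw [mem_posL] at hx
  by_cases h : 56 ≤ x
  · exact (mem_W ρ ψ).1 hv x (by simp [Q0]; omega) u
  · rw [dl_ne _ (by omega), zero_mul, AddChar.map_zero_eq_one, one_smul]
    exact H.line_fix ha hv (by simp; omega) u

theorem Small.U1_ne {a : F} (ha : a ≠ 0) : W ρ ψ posL (dl 56 a) ≠ ⊥ := by
  rw [H.U1_eq ha]
  exact fun h => H.line_pos a ha (Submodule.finrank_eq_zero.2 h)

/-- No eigenvector with the two adjacent roots at the end of the diagram. -/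
theorem Small.adj_bot {a b : F} (ha : a ≠ 0) (hb : b ≠ 0) :
    W ρ ψ posL (dl2 56 a 42 b) = ⊥ := by
  refine (Submodule.eq_bot_iff _).2 fun v hv => ?_
  by_contra hv0
  have hvQ : v ∈ W ρ ψ Q0 (dl 56 a) := W_mono ρ ψ (S := posL) (P := dl2 56 a 42 b) (fun x hx =>
    ⟨(by decide +kernel : ∀ x ∈ Q0, x ∈ posL) x hx, by
      have : x ≠ 42 := by simp [Q0] at hx; omega
      simp only [dl, dl2, this, if_false]⟩) hv
  have hne : ψ.mulShift b ≠ 1 := H.prim hb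
  obtain ⟨u, hu⟩ := AddChar.ne_one_iff.1 hne
  have h1 := (mem_W ρ ψ).1 hv 42 (by decide +kernel) u
  rw [H.line_fix ha hvQ (by decide +kernel) u] at h1
  refine hu ?_
  rw [AddChar.mulShift_apply]
  have h2 : (1 : ℂ) • v = ψ (dl2 56 a 42 b 42 * u) • v := by rwa [one_smul]
  have := smul_left_injective ℂ hv0 h2
  simpa [dl2] using this.symm

variable {s t : ℕ} {w : List (Fin 6)} (hn : NodeOk s t w)
include hn

theorem Small.node_pull {P : ℕ → F} (hs : P s ≠ 0) (hadj : ∀ x ∈ adj0, P (wR w x) = 0)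
    (hne : dW ρ ψ (wQ w) P ≠ 0) : ∀ x ∈ Q0, x ≠ 56 → P (wR w x) = 0 := by
  have h72 : ∀ x ∈ Q0, x < 72 := by decide +kernel
  set P0 : ℕ → F := fun x => P (wR w x) * (wS w x : F) with hP0
  have hle : dW ρ ψ (wQ w) P ≤ dW ρ ψ Q0 P0 :=
    dW_le_of_maps ρ ψ (nW w)⁻¹ fun v hv => maps_W_inv ρ ψ (nW w) (fun x hx =>
      ⟨wR w x, List.mem_map_of_mem hx, (wS w x : F), fun u => nW_conj w (h72 x hx) u, rfl⟩) hv
  intro x hx hx56
  have h := single0 ρ ψ H.prim H.lt_pow (P := P0)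
    (mul_ne_zero (by rw [hn.1]; exact hs) (wS_ne w (by norm_num)))
    (fun y hy => by simp [hP0, hadj y hy]) (fun h0 => hne (Nat.le_zero.1 (h0 ▸ hle))) x hx
  rw [dl_ne _ hx56] at h
  exact (mul_eq_zero.1 h).resolve_right (wS_ne w (h72 x hx))

theorem Small.node_line {a : F} (ha : a ≠ 0) : dW ρ ψ (wQ w) (dl s a) ≤ 1 := by
  have h72 : ∀ x ∈ Q0, x < 72 := by decide +kernel
  refine le_trans (dW_le_of_maps ρ ψ (nW w)⁻¹ fun v hv => maps_W_inv ρ ψ (nW w) (S := Q0)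
    (P := dl 56 (a * (wS w 56 : F))) (fun x hx =>
      ⟨wR w x, List.mem_map_of_mem hx, (wS w x : F), fun u => nW_conj w (h72 x hx) u, ?_⟩) hv)
    (H.line_le _ (mul_ne_zero ha (wS_ne w (by norm_num))))
  rcases eq_or_ne x 56 with rfl | hx'
  · rw [hn.1, dl_self, dl_self]
  · rw [dl_ne _ hx', dl_ne _, zero_mul]
    intro e
    -- a word acts injectively on the roots
    exact hx' (wR_inj w (h72 x hx) (by norm_num) (e.trans hn.1.symm))

/-- Clearing a character which is positive only at `s` and `t`. -/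
theorem Small.node_clear {a b : F} (ha : a ≠ 0) {P : ℕ → F}
    (hP : ∀ x ∈ wQpos w, P x = dl2 s a t b x) (hne : dW ρ ψ (wQ w) P ≠ 0) :
    (t ≠ s → b = 0) ∧ ∀ x ∈ wQ w,
      mvs ((wRM w).map fun r => (r, clearT s P r)) P x = dl s a x := by
  obtain ⟨hw56, htf, htQ, hsQ, -, hex, -, hz, hadj, -⟩ := id hn
  set P' := mvs ((wRM w).map fun r => (r, clearT s P r)) P with hP'
  have hPs : P s = a := by rw [hP s hsQ, dl2, if_pos rfl]
  have h1 : ∀ p ∈ (wRM w).map fun r => (r, clearT s P r), ∀ x,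
      (x ∈ wQpos w ∧ x ≠ s ∧ x ≠ t) → sgnR p.1 x = 0 ∨
        (tgtR p.1 x ∈ wQpos w ∧ tgtR p.1 x ≠ s ∧ tgtR p.1 x ≠ t) := fun p hp x hx => by
    obtain ⟨r, hr, rfl⟩ := List.mem_map.1 hp
    exact hz r hr x hx.1
  have h2 : ∀ x, (x ∈ wQpos w ∧ x ≠ s ∧ x ≠ t) → P x = 0 := fun x hx => by
    rw [hP x hx.1, dl2, if_neg hx.2.1, if_neg hx.2.2]
  have hpos : ∀ x ∈ wQpos w, P' x = P x := fun x hx => by
    rw [hP', mvs_eq (Z := fun y => y ∈ wQpos w ∧ y ≠ s ∧ y ≠ t) h1 h2]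
    intro p hp
    obtain ⟨r, hr, rfl⟩ := List.mem_map.1 hp
    exact hz r hr x hx
  have hs' : P' s = a := by rw [hpos s hsQ, hPs]
  have hadj' : ∀ x ∈ adj0, P' (wR w x) = 0 := fun x hx => by
    have hxQ : wR w x ∈ wQ w :=
      List.mem_map_of_mem ((by decide +kernel : ∀ x ∈ adj0, x ∈ Q0) x hx)
    rcases hadj x hx with ⟨h36, h3⟩ | ⟨r, hr, hr'⟩
    · rw [hpos _ (mem_wQpos.2 ⟨hxQ, h36⟩)]
      exact h2 _ ⟨mem_wQpos.2 ⟨hxQ, h36⟩, h3⟩
    · rw [← hr']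
      exact mvs_clear hex (hPs ▸ ha) r hr
  have hne' : dW ρ ψ (wQ w) P' ≠ 0 := fun h => hne (Nat.le_zero.1 (h ▸ dW_le_mvs ρ ψ
    (fun p hp => by
      obtain ⟨r, hr, rfl⟩ := List.mem_map.1 hp
      exact (hex.2.2 r hr).1) P))
  have hrest := H.node_pull hn (hs' ▸ ha) hadj' hne'
  refine ⟨fun hts => ?_, fun x hx => ?_⟩
  · obtain ⟨y, hy, hyt⟩ := htf.resolve_left hts
    have hyQ : y ∈ Q0 ∧ y ≠ 56 := (by decide +kernel : ∀ y ∈ five0, y ∈ Q0 ∧ y ≠ 56) y hy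
    have := hrest y hyQ.1 hyQ.2
    rwa [hyt, hpos t htQ, hP t htQ, dl2, if_neg hts, if_pos rfl] at this
  · obtain ⟨y, hy, rfl⟩ := List.mem_map.1 hx
    rcases eq_or_ne y 56 with rfl | hy'
    · rw [hw56, dl_self, hs']
    · rw [hrest y hy hy', dl_ne _ fun e =>
        hy' (wR_inj w ((by decide +kernel : ∀ x ∈ Q0, x < 72) y hy) (by norm_num) (e.trans hw56.symm))]

end CfsgLib.E6MinDeg
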