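import Cfsg.Agent.E6MinDeg.Line

/-!
Eigenvectors of the maximal unipotent subgroup: one line for each fundamental root and nothing with
two orthogonal fundamental roots.
-/

set_option autoImplicit false
set_option linter.style.haveILetI false
set_option linter.unusedSectionVars false

namespace CfsgLib.E6MinDeg

open Cfsg.Lie CfsgLib.Chev CfsgLib.Chev.Tab Module CfsgLib.MinDeg

variable {F : Type*} [Field F] [Fintype F] {V : Type*} [AddCommGroup V] [Module ℂ V]
  [FiniteDimensional ℂ V] (ρ : Representation ℂ (chevE6.group F) V)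

/-- The sum over a root subgroup. -/
noncomputable def rootSum (r : ℕ) : V →ₗ[ℂ] V := ∑ t : F, ρ (xg r t)

theorem rootSum_apply (r : ℕ) (v : V) : rootSum ρ r v = ∑ t : F, ρ (xg r t) v := by
  simp [rootSum, LinearMap.sum_apply]

theorem rootSum_absorb (r : ℕ) (u : F) (v : V) :
    rootSum ρ r (ρ (xg r u) v) = rootSum ρ r v := by
  rw [rootSum_apply, rootSum_apply]
  refine Fintype.sum_equiv (Equiv.addRight u) _ _ fun t => ?_
  rw [← Module.End.mul_apply, ← map_mul, xg_add, Equiv.coe_addRight]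

theorem rootSum_shift (r : ℕ) (u : F) (v : V) :
    ρ (xg r u) (rootSum ρ r v) = rootSum ρ r v := by
  rw [rootSum_apply, map_sum]
  refine Fintype.sum_equiv (Equiv.addLeft u) _ _ fun t => ?_
  rw [← Module.End.mul_apply, ← map_mul, xg_add, Equiv.coe_addLeft]

/-- The product of the sums over several root subgroups. -/
noncomputable def multiSum : List ℕ → (V →ₗ[ℂ] V)
  | [] => LinearMap.id
  | r :: R => (rootSum ρ r).comp (multiSum R)

theorem multiSum_comm {g : chevE6.group F} : ∀ {R : List ℕ},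
    (∀ r ∈ R, ∀ t : F, g * xg r t = xg r t * g) → ∀ v : V,
      multiSum ρ R (ρ g v) = ρ g (multiSum ρ R v)
  | [], _, _ => rfl
  | r :: R, h, v => by
    simp only [multiSum, LinearMap.comp_apply]
    rw [multiSum_comm (fun q hq => h q (List.mem_cons_of_mem _ hq)) v, rootSum_apply,
      rootSum_apply, map_sum]
    refine Finset.sum_congr rfl fun t _ => ?_
    show (ρ (xg r t) * ρ g) _ = (ρ g * ρ (xg r t)) _
    rw [← map_mul, ← map_mul, h r (List.mem_cons_self ..) t]

theorem multiSum_absorb : ∀ {R : List ℕ},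
    (∀ r ∈ R, ∀ r' ∈ R, ∀ t u : F, xg r t * xg r' u = xg r' u * xg r t) →
    ∀ r ∈ R, ∀ (u : F) (v : V), multiSum ρ R (ρ (xg r u) v) = multiSum ρ R v
  | [], _, r, hr, _, _ => absurd hr List.not_mem_nil
  | q :: R, h, r, hr, u, v => by
    simp only [multiSum, LinearMap.comp_apply]
    rcases List.mem_cons.1 hr with rfl | hr'
    · rw [multiSum_comm ρ (fun p hp t => h r (List.mem_cons_self ..) p (List.mem_cons_of_mem _ hp) u t) v,
        rootSum_absorb]
    · rw [multiSum_absorb (fun a ha b hb => h a (List.mem_cons_of_mem _ ha) b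
        (List.mem_cons_of_mem _ hb)) r hr' u v]

theorem multiSum_xprod {R : List ℕ}
    (h : ∀ r ∈ R, ∀ r' ∈ R, ∀ t u : F, xg r t * xg r' u = xg r' u * xg r t) :
    ∀ {L : List (ℕ × F)}, (∀ p ∈ L, p.1 ∈ R) → ∀ v : V,
      multiSum ρ R (ρ (xprod L) v) = multiSum ρ R v
  | [], _, v => by rw [xprod_nil, map_one, Module.End.one_apply]
  | p :: L, hL, v => by
    rw [xprod_cons, map_mul, Module.End.mul_apply,
      multiSum_absorb ρ h p.1 (hL p (List.mem_cons_self ..)),
      multiSum_xprod h (fun q hq => hL q (List.mem_cons_of_mem _ hq))]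

theorem multiSum_fixed : ∀ {R : List ℕ} {v : V}, (∀ r ∈ R, ∀ t : F, ρ (xg r t) v = v) →
    multiSum ρ R v = ((Fintype.card F : ℂ) ^ R.length) • v
  | [], v, _ => by simp [multiSum]
  | r :: R, v, h => by
    simp only [multiSum, LinearMap.comp_apply]
    rw [multiSum_fixed (fun q hq => h q (List.mem_cons_of_mem _ hq)), map_smul, rootSum_apply,
      Finset.sum_congr rfl fun t _ => h r (List.mem_cons_self ..) t, Finset.sum_const,
      Finset.card_univ, ← Nat.cast_smul_eq_nsmul ℂ, smul_smul, List.length_cons, pow_succ]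

variable {ρ} {ψ : AddChar F ℂ} (H : Small ρ ψ)
include H

variable {s t : ℕ} {w : List (Fin 6)} (hn : NodeOk s t w)
include hn

theorem Small.node_extends (P : ℕ → F) : Extends (wQ w) (wQpos w) P := fun r hr => by
  obtain ⟨h1, h2⟩ := hn.2.2.2.2.2.2.2.2.2 r hr
  refine ⟨h1, fun x hx => ?_⟩
  have hx' : x ∈ wQ w := (List.mem_append.1 hx).elim id fun h => (mem_wQpos.1 h).1
  exact ⟨(hn.2.2.2.2.2.2.2.2.2 x hx').1, (h2 x hx').1, Or.inl (h2 x hx').2⟩

theorem Small.pair_bot (hts : t ≠ s) {a b : F} (ha : a ≠ 0) (hb : b ≠ 0) :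
    W ρ ψ posL (dl2 s a t b) = ⊥ := by
  by_contra hne
  have hne' : W ρ ψ (wQpos w) (dl2 s a t b) ≠ ⊥ := fun h => hne (le_bot_iff.1 (le_trans
    (W_mono ρ ψ fun x hx => ⟨mem_posL.2 ⟨(mem_wQpos.1 hx).2,
      (hn.2.2.2.2.2.2.2.2.2 x (mem_wQpos.1 hx).1).1⟩, rfl⟩) h.le))
  obtain ⟨P, hP, hPne⟩ := exists_extension ρ ψ H.prim (H.node_extends hn _) hne'
  refine hb ((H.node_clear hn ha hP fun h => hPne ?_).1 hts)
  rw [eq_bot_iff, ← Submodule.finrank_eq_zero.1 h]
  exact W_mono ρ ψ fun x hx => ⟨List.mem_append_left _ hx, rfl⟩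

theorem Small.node_U (hts : t = s) {a : F} (ha : a ≠ 0) :
    dW ρ ψ posL (dl s a) ≤ 1 := by
  subst hts
  obtain ⟨-, -, -, -, hs36, hex, hRM, -, -, -⟩ := id hn
  set R := wRM w with hR
  have hcomm : ∀ r ∈ R, ∀ r' ∈ R, ∀ t u : F, xg r t * xg r' u = xg r' u * xg r t :=
    fun r hr r' hr' t u => by
      obtain ⟨hne, h0⟩ := (hRM r hr).2.2.2 r' hr'
      exact (xg_comm (hex.2.2 r hr).1.1 (hex.2.2 r' hr').1.1 hne h0 t u).symm
  set E := multiSum ρ R with hE
  set L := W ρ ψ (wQ w) (dl t a) with hL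
  have hS0 : W ρ ψ (wQpos w) (dl t a) ≤ (L.map E).comap E := by
    refine induct_slices ρ ψ H.prim (H.node_extends hn _) fun P hP y hy => ?_
    rw [Submodule.mem_comap]
    rcases eq_or_ne y 0 with rfl | hy0
    · rw [map_zero]; exact Submodule.zero_mem _
    have hyQ : y ∈ W ρ ψ (wQ w) P :=
      W_mono ρ ψ (fun x hx => ⟨List.mem_append_left _ hx, rfl⟩) hy
    have hd : dW ρ ψ (wQ w) P ≠ 0 := fun h => by
      have := one_le_dW ρ ψ hyQ hy0
      omega
    have hclear := (H.node_clear hn ha (b := a) (P := P)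
      (fun x hx => by rw [hP x hx, dl2_self]) hd).2
    refine ⟨ρ (xprod (R.map fun r => (r, clearT t P r))) y, ?_, ?_⟩
    · show _ ∈ W ρ ψ (wQ w) (dl t a)
      rw [← W_congr ρ ψ hclear]
      exact translate_list ρ ψ (fun p hp => by
        obtain ⟨r, hr, rfl⟩ := List.mem_map.1 hp
        exact (hex.2.2 r hr).1) hyQ
    · exact multiSum_xprod ρ hcomm (fun p hp => by
        obtain ⟨r, hr, rfl⟩ := List.mem_map.1 hp
        exact hr) y
  have hU : W ρ ψ posL (dl t a) ≤ L.map E := fun v hv => by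
    have hvQ : v ∈ W ρ ψ (wQpos w) (dl t a) := W_mono ρ ψ (fun x hx =>
      ⟨mem_posL.2 ⟨(mem_wQpos.1 hx).2, (hn.2.2.2.2.2.2.2.2.2 x (mem_wQpos.1 hx).1).1⟩, rfl⟩) hv
    have h1 : E v ∈ L.map E := hS0 hvQ
    rw [hE, multiSum_fixed ρ fun r hr u => by
      have h2 := (mem_W ρ ψ).1 hv r (mem_posL.2 ⟨(hRM r hr).2.2.1, (hex.2.2 r hr).1.1⟩) u
      rwa [dl_ne _ (hRM r hr).1, zero_mul, AddChar.map_zero_eq_one, one_smul] at h2] at h1
    have hq : ((Fintype.card F : ℂ) ^ R.length) ≠ 0 := pow_ne_zero _ (by simp)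
    have := (L.map E).smul_mem ((Fintype.card F : ℂ) ^ R.length)⁻¹ h1
    rwa [smul_smul, inv_mul_cancel₀ hq, one_smul] at this
  exact le_trans (Submodule.finrank_mono hU)
    (le_trans (Submodule.finrank_map_le E L) (H.node_line hn ha))

omit hn

theorem Small.U_le (i : Fin 6) {a : F} (ha : a ≠ 0) :
    dW ρ ψ posL (dl (chevE6.simple i) a) ≤ 1 := by
  obtain ⟨⟨s, t, w⟩, he, hs, ht⟩ := chk_single i
  rw [← hs]
  exact H.node_U (chk_nodes _ he) (ht.trans hs.symm) ha

theorem Small.orth_bot {i j : Fin 6} (hij : i ≠ j) (h0 : T6.cart i.val (chevE6.simple j) = 0)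
    {a b : F} (ha : a ≠ 0) (hb : b ≠ 0) :
    W ρ ψ posL (dl2 (chevE6.simple i) a (chevE6.simple j) b) = ⊥ := by
  have hne : chevE6.simple i ≠ chevE6.simple j := fun e =>
    hij ((by decide +kernel : ∀ i j : Fin 6, chevE6.simple i = chevE6.simple j → i = j) i j e)
  rcases chk_cover i j with h | h | ⟨⟨s, t, w⟩, he, ⟨hs, ht⟩ | ⟨hs, ht⟩⟩
  · exact absurd h hij
  · exact absurd h0 h
  · simp only at hs ht
    subst hs ht
    exact H.pair_bot (chk_nodes _ he) hne.symm ha hb
  · simp only at hs ht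
    subst hs ht
    rw [W_congr ρ ψ (P' := dl2 (chevE6.simple j) b (chevE6.simple i) a) fun x _ => by
      simp only [dl2]
      split_ifs with h1 h2 <;> first | rfl | exact absurd (h1.symm.trans h2) hne]
    exact H.pair_bot (chk_nodes _ he) hne hb ha

end CfsgLib.E6MinDeg
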